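import Cfsg.Agent.Lib.SecondMain.DihedralBlock

/-!
# The coefficients of real functions on the rotations

`coeff_gram`: the integer coefficient vectors of families `d i` of functions on a cyclic group of
order `m = 2 h` with prescribed column products, their Gram matrix and the value at `h`.
-/

set_option autoImplicit false

open scoped ComplexConjugate

namespace Cfsg.Agent.DihedralDefect

open Finset

variable {ι : Type*} [Fintype ι]

theorem sum_range_symm {h : ℕ} (h2 : 2 ≤ h) (f : ℕ → ℂ) (hf : ∀ j ≤ 2 * h, f (2 * h - j) = f j)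
    (h1 : f 1 = 0) : ∑ j ∈ range (2 * h), f j = f 0 + f h + 2 * ∑ j ∈ Ico 2 h, f j := by
  have e1 : ∑ j ∈ range h, f j = f 0 + ∑ j ∈ Ico 2 h, f j := by
    rw [range_eq_Ico, sum_eq_sum_Ico_succ_bot (by omega), sum_eq_sum_Ico_succ_bot (by omega), h1, zero_add]
  have e2 : ∑ j ∈ Ico (h + 1) (2 * h), f j = ∑ j ∈ Ico 1 h, f j := by
    refine sum_nbij' (fun j => 2 * h - j) (fun j => 2 * h - j) (fun j hj => ?_) (fun j hj => ?_)
      (fun j hj => ?_) (fun j hj => ?_) fun j hj => (hf j ?_).symm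
    all_goals simp only [mem_Ico] at hj ⊢
    all_goals omega
  rw [← sum_range_add_sum_Ico _ (show h ≤ 2 * h by omega), e1,
    sum_eq_sum_Ico_succ_bot (show h < 2 * h by omega), e2,
    sum_eq_sum_Ico_succ_bot (show 1 < h by omega), h1]
  ring

/-- The coefficient vectors and their Gram matrix. -/
theorem coeff_gram {m h : ℕ} (hm : m = 2 * h) (h2 : 2 ≤ h) {ζ : ℂ} (hζ : IsPrimitiveRoot ζ m)
    (d : ι → ℕ → ℂ) (hreal : ∀ i x, conj (d i x) = d i x)
    (hsymm : ∀ i x, x ≤ m → d i (m - x) = d i x)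
    (N : ι → ℕ → ℤ) (hN : ∀ i j, (N i j : ℂ) * m = ∑ x ∈ range m, d i x * ζ ^ (j * x))
    (hcol : ∀ x y, 0 < x → x < m → 0 < y → y < m →
      ∑ i, d i x * conj (d i y) = (m : ℂ) * ((if x = y then 1 else 0) + if x + y = m then 1 else 0)) :
    ∃ Φ : ℕ → ι → ℤ,
      (∀ j k, j ≤ h → j ≠ 1 → k ≤ h → k ≠ 1 →
        ∑ i, Φ j i * Φ k i = 1 + if j = k then (if j = 0 ∨ j = h then 2 else 1) else 0) ∧
      (∀ i, d i h = ((Φ 0 i + (-1) ^ h * Φ h i + 2 * ∑ j ∈ Ico 2 h, (-1) ^ j * Φ j i : ℤ) : ℂ)) ∧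
      ∀ i j, (Φ j i : ℂ) * m = ∑ x ∈ range m, d i x * (ζ ^ (j * x) - ζ ^ x) := by
  have hm0 : m ≠ 0 := by omega
  have hmC : (m : ℂ) ≠ 0 := Nat.cast_ne_zero.mpr hm0
  have hcζ : conj ζ = ζ⁻¹ := (Complex.inv_eq_conj (hζ.norm'_eq_one hm0)).symm
  let f : ℕ → ℕ → ℂ := fun j x => ζ ^ (j * x) - ζ ^ x
  have hf : ∀ i j, ((N i j - N i 1 : ℤ) : ℂ) * m = ∑ x ∈ range m, d i x * f j x := fun i j => by
    rw [Int.cast_sub, sub_mul, hN, hN, ← sum_sub_distrib]
    exact sum_congr rfl fun x _ => by simp only [f, one_mul, mul_sub]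
  have hf0 : ∀ j, f j 0 = 0 := fun j => by simp [f]
  have hconj : ∀ i j, ((N i j - N i 1 : ℤ) : ℂ) * m = ∑ x ∈ range m, d i x * conj (f j x) :=
    fun i j => by
      have := congrArg conj (hf i j)
      simpa [map_sum, map_mul, hreal] using this
  refine ⟨fun j i => N i j - N i 1, fun j k hj hj1 hk hk1 => ?_, fun i => ?_, hf⟩
  · refine Int.cast_injective (α := ℂ) (mul_left_cancel₀ (pow_ne_zero 2 hmC) ?_)
    rw [Int.cast_sum, mul_sum, sum_congr rfl fun i _ => show
        (m : ℂ) ^ 2 * (((N i j - N i 1) * (N i k - N i 1) : ℤ) : ℂ)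
      = ∑ x ∈ range m, ∑ y ∈ range m, (f j x * conj (f k y)) * (d i x * conj (d i y)) by
        rw [Int.cast_mul, show (m : ℂ) ^ 2 * (((N i j - N i 1 : ℤ) : ℂ) * ((N i k - N i 1 : ℤ) : ℂ))
          = (((N i j - N i 1 : ℤ) : ℂ) * m) * (((N i k - N i 1 : ℤ) : ℂ) * m) by ring, hf, hconj, sum_mul_sum]
        refine sum_congr rfl fun x _ => sum_congr rfl fun y _ => ?_
        rw [hreal i y]
        ring]
    rw [sum_comm, sum_congr rfl fun x _ => sum_comm]
    simp only [← mul_sum]
    rw [sum_congr rfl fun x hx => show _ = (m : ℂ) * (f j x * (f k x + conj (f k x))) from ?_,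
      ← mul_sum, SecondMain.sum_diff_mul_diff hm h2 hζ hj hj1 hk hk1]
    · ring
    by_cases hx0 : x = 0
    · subst hx0
      simp [hf0]
    have hxm := mem_range.mp hx
    rw [sum_congr rfl fun y hy => show _ = (m : ℂ) * (f j x * ((if x = y then conj (f k y) else 0)
        + if y = m - x then conj (f k y) else 0)) from ?_]
    · rw [← mul_sum, ← mul_sum, sum_add_distrib, sum_ite_eq, sum_ite_eq', if_pos hx,
        if_pos (mem_range.mpr (by omega))]
      have e : conj (f k (m - x)) = f k x := by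
        have hh1 : ∀ e, conj (ζ ^ (e * (m - x))) = ζ ^ (e * x) := fun e => by
          rw [map_pow, hcζ, inv_pow]
          refine (eq_inv_of_mul_eq_one_left ?_).symm
          rw [← pow_add, ← mul_add, Nat.add_sub_cancel' hxm.le, mul_comm, pow_mul, hζ.pow_eq_one, one_pow]
        have := hh1 1
        rw [one_mul, one_mul] at this
        simp only [f, map_sub, hh1, this]
      rw [e]
      ring
    by_cases hy0 : y = 0
    · subst hy0
      simp [hf0]
    rw [hcol x y (Nat.pos_of_ne_zero hx0) hxm (Nat.pos_of_ne_zero hy0) (mem_range.mp hy),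
      if_congr (show x + y = m ↔ y = m - x by omega) rfl rfl]
    split_ifs <;> ring
  · have hζh : ζ ^ h = -1 := by
      have h1 : ζ ^ h * ζ ^ h = 1 := by rw [← pow_add, ← two_mul, ← hm, hζ.pow_eq_one]
      exact (mul_self_eq_one_iff.mp h1).resolve_left (hζ.pow_ne_one_of_pos_of_lt (by omega) (by omega))
    -- the value at `h`
    have hval : d i h = ∑ j ∈ range m, ((N i j - N i 1 : ℤ) : ℂ) * (-1) ^ j := by
      refine mul_left_cancel₀ hmC ?_
      rw [mul_sum, sum_congr rfl fun j _ => show (m : ℂ) * (((N i j - N i 1 : ℤ) : ℂ) * (-1) ^ j)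
        = ∑ x ∈ range m, d i x * ((ζ ^ (x + h)) ^ j - ζ ^ x * (ζ ^ h) ^ j) by
          rw [← mul_assoc, mul_comm (m : ℂ), hf, sum_mul]
          refine sum_congr rfl fun x _ => ?_
          simp only [f, ← hζh, ← pow_mul]
          rw [show (x + h) * j = j * x + h * j by ring, pow_add]
          ring]
      rw [sum_comm]
      simp only [← mul_sum, sum_sub_distrib]
      have hg : ∀ e, ∑ j ∈ range m, (ζ ^ e) ^ j = if m ∣ e then (m : ℂ) else 0 := fun e => by
        rw [CycloTrace.geom_sum_of_pow_eq_one (by rw [← pow_mul, mul_comm, pow_mul, hζ.pow_eq_one, one_pow])]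
        simp only [hζ.pow_eq_one_iff_dvd]
      simp only [hg]
      have hl' : ¬ m ∣ h := fun x => absurd (Nat.le_of_dvd (by omega) x) (by omega)
      rw [sum_eq_single h]
      · rw [if_pos (by rw [hm, two_mul]), if_neg hl', mul_zero, sub_zero]
        ring
      · intro x hx hne
        rw [if_neg, if_neg hl', mul_zero, sub_zero, mul_zero]
        rintro ⟨c, hc⟩
        have := mem_range.mp hx
        rcases c with _ | _ | c
        · omega
        · omega
        · nlinarith
      · exact fun x => absurd (mem_range.mpr (by omega)) x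
    have hNsymm : ∀ j, j ≤ m → N i (m - j) = N i j := fun j hj => by
      refine Int.cast_injective (α := ℂ) (mul_right_cancel₀ hmC ?_)
      have h1 := congrArg conj (hN i j)
      simp only [map_sum, map_mul, map_intCast, map_natCast, map_pow, hcζ, hreal] at h1
      rw [hN i (m - j), h1]
      refine sum_congr rfl fun x _ => ?_
      congr 1
      rw [inv_pow]
      refine eq_inv_of_mul_eq_one_left ?_
      rw [← pow_add, ← add_mul, Nat.sub_add_cancel hj, pow_mul, hζ.pow_eq_one, one_pow]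
    subst hm
    rw [hval, sum_range_symm h2 (fun j => ((N i j - N i 1 : ℤ) : ℂ) * (-1) ^ j)]
    · push_cast
      rw [pow_zero, mul_one, mul_comm _ ((-1 : ℂ) ^ h)]
      congr 2
      exact sum_congr rfl fun j _ => mul_comm _ _
    · intro j hj
      show ((N i (2 * h - j) - N i 1 : ℤ) : ℂ) * (-1) ^ (2 * h - j) = _
      rw [hNsymm j hj]
      congr 1
      rw [neg_one_pow_eq_pow_mod_two, neg_one_pow_eq_pow_mod_two (n := j), show (2 * h - j) % 2 = j % 2 by omega]
    · simp

end Cfsg.Agent.DihedralDefect
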