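import Cfsg.Agent.Lib.SecondMain.DihedralVectors

/-!
# Integer vectors with the Gram matrix of the rotations of a dihedral defect group

`count_of_gram`: such vectors, with a central value vanishing nowhere, fill `h + 3` indices, four of
central value `±1` and the others `±2`; or `h = 4` and there are five indices.
-/

set_option autoImplicit false

namespace Cfsg.Agent.DihedralDefect

open Finset

variable {ι : Type*} [Fintype ι]

theorem sum_alt {h : ℕ} (hev : Even h) (h2 : 2 ≤ h) : ∑ j ∈ Ico 2 h, (-1 : ℤ) ^ j = 0 := by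
  obtain ⟨k, rfl⟩ := hev
  induction k with
  | zero => omega
  | succ k ih =>
    rcases Nat.eq_zero_or_pos k with rfl | hk
    · simp
    · rw [show k + 1 + (k + 1) = k + k + 1 + 1 by omega, sum_Ico_succ_top (by omega),
        sum_Ico_succ_top (by omega), ih (by omega), pow_succ]
      ring

theorem support_pair {v : ι → ℤ} (h : ∑ i, v i * v i = 2) {i j : ι} (hij : i ≠ j) (hi : v i ≠ 0)
    (hj : v j ≠ 0) (k : ι) (hki : k ≠ i) (hkj : k ≠ j) : v k = 0 := by
  classical
  by_contra hk
  have h1 := SecondMain.card_support_of_sum_sq (n := 2) (by norm_num) (by simpa using h)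
  have hsub : ({i, j, k} : Finset ι) ⊆ univ.filter fun l => v l ≠ 0 := by
    intro l hl
    simp only [mem_insert, mem_singleton] at hl
    rcases hl with rfl | rfl | rfl <;> simp [hi, hj, hk]
  have h2 := card_le_card hsub
  rw [h1, card_insert_of_notMem (by simp [hij, Ne.symm hki]), card_pair (Ne.symm hkj)] at h2
  omega

theorem no_three (a b c : Bool × Bool) (hab : a ≠ b) (hac : a ≠ c) (hbc : b ≠ c)
    (h1 : a.1 = b.1 ∨ a.2 = b.2) (h2 : a.1 = c.1 ∨ a.2 = c.2) (h3 : b.1 = c.1 ∨ b.2 = c.2) : False := by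
  revert a b c
  decide

theorem pm_of_three {x : ℤ} (h : x = -1 ∨ x = 0 ∨ x = 1) (h0 : x ≠ 0) : x = 1 ∨ x = -1 := by omega

theorem sq_of_three {x : ℤ} (h : x = -1 ∨ x = 0 ∨ x = 1) (h0 : x ≠ 0) : x * x = 1 := by
  rcases pm_of_three h h0 with e | e <;> rw [e] <;> norm_num

theorem two_units {a b c d : ℤ} (ha : a = 1 ∨ a = -1) (hb : b = 1 ∨ b = -1) (hc : c = 1 ∨ c = -1)
    (hd : d = 1 ∨ d = -1) : a * b + c * d ≠ 1 := by
  rcases ha with rfl | rfl <;> rcases hb with rfl | rfl <;> rcases hc with rfl | rfl <;>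
    rcases hd with rfl | rfl <;> norm_num

theorem eq_of_mul_one {x y : ℤ} (hy : y = -1 ∨ y = 0 ∨ y = 1) (hx : x = -1 ∨ x = 0 ∨ x = 1)
    (h : y * x = 1) : x = y := by
  rcases hy with rfl | rfl | rfl <;> rcases hx with rfl | rfl | rfl <;> omega

/-- The orthogonal vector in the exceptional shape and the weighted value. -/
theorem five_value {E a a' b b' : ι} (hU : ∀ i, i = E ∨ i = a ∨ i = a' ∨ i = b ∨ i = b')
    (hEa : E ≠ a) (hEa' : E ≠ a') (hEb : E ≠ b) (hEb' : E ≠ b') (haa : a ≠ a') (hab : a ≠ b)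
    (hab' : a ≠ b') (ha'b : a' ≠ b) (ha'b' : a' ≠ b') (hbb : b ≠ b') (vA vB v2 v3 : ι → ℤ)
    (hB : vB E = vA E) (hAb : vA b = 0) (hAb' : vA b' = 0) (hBa : vB a = 0) (hBa' : vB a' = 0)
    (hsE : vA E * vA E = 1) (hsa : vA a * vA a = 1) (hsa' : vA a' * vA a' = 1)
    (hsb : vB b * vB b = 1) (hsb' : vB b' * vB b' = 1)
    (h2a : v2 a = vA a) (h2b : v2 b = vB b) (h2r : ∀ i, i ≠ a → i ≠ b → v2 i = 0)
    (h3a : v3 a = vA a) (h3b : v3 b' = vB b') (h3r : ∀ i, i ≠ a → i ≠ b' → v3 i = 0)
    (w x : ι → ℤ) (hw : ∀ i, w i = vA i + vB i + 2 * (v2 i - v3 i))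
    (hx : ∀ i, x i = vA i + vB i - 2 * v2 i)
    (δ : ι → ℂ) (hδ : ∀ i, δ i ≠ 0) (oA : ∑ i, δ i * (vA i : ℂ) = 0) (oB : ∑ i, δ i * (vB i : ℂ) = 0)
    (o2 : ∑ i, δ i * (v2 i : ℂ) = 0) (o3 : ∑ i, δ i * (v3 i : ℂ) = 0) :
    ∃ t : ℂ, (∀ i, Odd (w i) → δ i = t ∨ δ i = -t ∨ δ i = 3 * t ∨ δ i = -(3 * t)) ∧
      3 * t * ∑ i, (w i : ℂ) ^ 2 * (x i : ℂ) / δ i = 32 := by
  classical
  have hsum : ∀ f : ι → ℂ, ∑ i, f i = f E + f a + f a' + f b + f b' := fun f => by
    rw [show (univ : Finset ι) = {E, a, a', b, b'} from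
      (Subset.antisymm (fun i _ => by simpa using hU i) (subset_univ _))]
    rw [sum_insert (by simp [hEa, hEa', hEb, hEb']), sum_insert (by simp [haa, hab, hab']),
      sum_insert (by simp [ha'b, ha'b']), sum_pair hbb]
    ring
  have q2E := h2r E hEa hEb
  have q2a' := h2r a' (Ne.symm haa) ha'b
  have q2b' := h2r b' (Ne.symm hab') (Ne.symm hbb)
  have q3E := h3r E hEa hEb'
  have q3a' := h3r a' (Ne.symm haa) ha'b'
  have q3b := h3r b (Ne.symm hab) hbb
  rw [hsum] at oA oB o2 o3
  simp only [hB, hAb, hAb', hBa, hBa', h2a, h2b, h3a, h3b, q2E, q2a', q2b', q3E, q3a', q3b,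
    Int.cast_zero, mul_zero, add_zero, zero_add] at oA oB o2 o3
  have cE : (vA E : ℂ) * vA E = 1 := by exact_mod_cast hsE
  have ca : (vA a : ℂ) * vA a = 1 := by exact_mod_cast hsa
  have ca' : (vA a' : ℂ) * vA a' = 1 := by exact_mod_cast hsa'
  have cb : (vB b : ℂ) * vB b = 1 := by exact_mod_cast hsb
  have cb' : (vB b' : ℂ) * vB b' = 1 := by exact_mod_cast hsb'
  have eE : δ E = 2 * (δ a * vA a) * vA E := by
    linear_combination (vA E : ℂ) * oB - (vA E : ℂ) * o2 - (vA E : ℂ) * o3 - δ E * cE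
  have ea' : δ a' = -(3 * (δ a * vA a)) * vA a' := by
    linear_combination (vA a' : ℂ) * oA - (vA a' : ℂ) * oB + (vA a' : ℂ) * o2 + (vA a' : ℂ) * o3
      - δ a' * ca'
  have eb : δ b = -(δ a * vA a) * vB b := by
    linear_combination (vB b : ℂ) * o2 - δ b * cb
  have eb' : δ b' = -(δ a * vA a) * vB b' := by
    linear_combination (vB b' : ℂ) * o3 - δ b' * cb'
  have ea : δ a = (δ a * vA a) * vA a := by linear_combination -δ a * ca
  have hpm : ∀ z : ℤ, z * z = 1 → z = 1 ∨ z = -1 := fun z hz => mul_self_eq_one_iff.1 hz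
  refine ⟨δ a * vA a, fun i hi => ?_, ?_⟩
  · rcases hU i with rfl | rfl | rfl | rfl | rfl
    · rw [hw, hB, q2E, q3E] at hi
      exact absurd hi (by simp [← two_mul, parity_simps])
    · rcases hpm _ hsa with e | e <;> simp [e]
    · rcases hpm _ hsa' with e | e <;> rw [ea', e] <;> simp
    · rcases hpm _ hsb with e | e <;> rw [eb, e] <;> simp
    · rcases hpm _ hsb' with e | e <;> rw [eb', e] <;> simp
  · have hta : δ a * (vA a : ℂ) ≠ 0 := mul_ne_zero (hδ a) fun h => by rw [h, mul_zero] at ca; exact zero_ne_one ca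
    rw [hsum, eE, ea', eb, eb']
    conv_lhs => arg 2; arg 1; arg 1; arg 1; arg 2; arg 2; rw [ea]
    generalize δ a * (vA a : ℂ) = t at hta
    simp only [hw, hx, hB, hAb, hAb', hBa, hBa', h2a, h2b, h3a, h3b, q2E, q2a', q2b', q3E, q3a', q3b]
    rcases hpm _ hsE with e1 | e1 <;> rcases hpm _ hsa with e2 | e2 <;> rcases hpm _ hsa' with e3 | e3 <;>
      rcases hpm _ hsb with e4 | e4 <;> rcases hpm _ hsb' with e5 | e5 <;>
      (rw [e1, e2, e3, e4, e5]; push_cast; field_simp; ring)

/-- The shape of the vectors. -/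
theorem count_of_gram (h : ℕ) (hev : Even h) (h2 : 2 ≤ h) (v : ℕ → ι → ℤ) (w : ι → ℤ)
    (hw : ∀ i, w i ≠ 0)
    (hwv : ∀ i, w i = v 0 i + v h i + 2 * ∑ j ∈ Ico 2 h, (-1 : ℤ) ^ j * v j i)
    (hgram : ∀ j k, j ≤ h → j ≠ 1 → k ≤ h → k ≠ 1 →
      ∑ i, v j i * v k i = 1 + if j = k then (if j = 0 ∨ j = h then 2 else 1) else 0) :
    (Fintype.card ι = h + 3 ∧ (∀ i, w i = 1 ∨ w i = -1 ∨ w i = 2 ∨ w i = -2) ∧
      (univ.filter fun i => Odd (w i)).card = 4 ∧
      ∃ (s : ι → ℤ) (A1 A2 B1 B2 : ι),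
        (A1 ≠ A2 ∧ B1 ≠ B2 ∧ A1 ≠ B1 ∧ A1 ≠ B2 ∧ A2 ≠ B1 ∧ A2 ≠ B2) ∧
        (∀ i, Odd (w i) ↔ (i = A1 ∨ i = A2 ∨ i = B1 ∨ i = B2)) ∧ (∀ i, s i * s i = 1) ∧
        ∀ δ : ι → ℂ, (∀ j, j ≤ h → j ≠ 1 → ∑ i, δ i * (v j i : ℂ) = 0) →
          (s A1 : ℂ) * δ A1 + s A2 * δ A2 = s B1 * δ B1 + s B2 * δ B2 ∧
          ∀ i, ¬ Odd (w i) → (s i : ℂ) * δ i = s A1 * δ A1 + s A2 * δ A2) ∨ (h = 4 ∧ Fintype.card ι = 5 ∧
        ∀ δ : ι → ℂ, (∀ i, δ i ≠ 0) → (∀ j, j ≤ h → j ≠ 1 → ∑ i, δ i * (v j i : ℂ) = 0) →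
          ∃ t : ℂ, (∀ i, Odd (w i) → δ i = t ∨ δ i = -t ∨ δ i = 3 * t ∨ δ i = -(3 * t)) ∧
            3 * t * ∑ i, (w i : ℂ) ^ 2 * ((v 0 i + v 4 i - 2 * v 2 i : ℤ) : ℂ) / δ i = 32) := by
  classical
  have g00 : ∑ i, v 0 i * v 0 i = ((3 : ℕ) : ℤ) := by
    rw [hgram 0 0 (by omega) (by omega) (by omega) (by omega), if_pos rfl, if_pos (Or.inl rfl)]
    norm_num
  have ghh : ∑ i, v h i * v h i = ((3 : ℕ) : ℤ) := by
    rw [hgram h h le_rfl (by omega) le_rfl (by omega), if_pos rfl, if_pos (Or.inr rfl)]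
    norm_num
  have g0h : ∑ i, v 0 i * v h i = 1 := by
    rw [hgram 0 h (by omega) (by omega) le_rfl (by omega), if_neg (by omega), add_zero]
  have gjj : ∀ j, 2 ≤ j → j < h → ∑ i, v j i * v j i = 2 := fun j a b => by
    rw [hgram j j b.le (by omega) b.le (by omega), if_pos rfl, if_neg (by omega)]
    norm_num
  have gjk : ∀ j k, 2 ≤ j → j < h → 2 ≤ k → k < h → j ≠ k → ∑ i, v j i * v k i = 1 :=
    fun j k a b c d hne => by
      rw [hgram j k b.le (by omega) d.le (by omega), if_neg hne, add_zero]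
  have g0j : ∀ j, 2 ≤ j → j < h → ∑ i, v 0 i * v j i = 1 := fun j a b => by
    rw [hgram 0 j (by omega) (by omega) b.le (by omega), if_neg (by omega), add_zero]
  have ghj : ∀ j, 2 ≤ j → j < h → ∑ i, v h i * v j i = 1 := fun j a b => by
    rw [hgram h j le_rfl (by omega) b.le (by omega), if_neg (by omega), add_zero]
  have e0 := SecondMain.abs_le_one_of_sum_sq (n := 3) le_rfl (by simpa using g00)
  have eh := SecondMain.abs_le_one_of_sum_sq (n := 3) le_rfl (by simpa using ghh)
  have ej : ∀ j, 2 ≤ j → j < h → ∀ i, v j i = -1 ∨ v j i = 0 ∨ v j i = 1 := fun j a b =>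
    SecondMain.abs_le_one_of_sum_sq (n := 2) (by norm_num) (gjj j a b)
  -- no index where the first two vectors have opposite signs
  have hnn : ∀ c, 0 ≤ v 0 c * v h c := by
    intro c
    by_contra hneg
    have hc1 : v 0 c * v h c = -1 := by
      rcases e0 c with a | a | a <;> rcases eh c with b | b | b <;> rw [a, b] at hneg ⊢ <;> omega
    have hsum : ∑ i, (v 0 i - v h i) * (v 0 i - v h i) = 4 := by
      rw [sum_congr rfl fun i _ => show (v 0 i - v h i) * (v 0 i - v h i) =
        v 0 i * v 0 i + v h i * v h i - 2 * (v 0 i * v h i) by ring, sum_sub_distrib, sum_add_distrib,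
        g00, ghh, ← mul_sum, g0h]
      norm_num
    have hc4 : (v 0 c - v h c) * (v 0 c - v h c) = 4 := by
      rcases e0 c with a | a | a <;> rcases eh c with b | b | b <;> rw [a, b] at hc1 ⊢ <;> omega
    have hrest : ∀ i, i ≠ c → v 0 i - v h i = 0 := by
      intro i hi
      rw [← add_sum_erase _ _ (mem_univ c), hc4] at hsum
      have := (sum_eq_zero_iff_of_nonneg fun i _ => mul_self_nonneg _).1
        (show ∑ x ∈ univ.erase c, (v 0 x - v h x) * (v 0 x - v h x) = 0 by linarith) i
        (mem_erase.2 ⟨hi, mem_univ _⟩)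
      exact mul_self_eq_zero.1 this
    refine hw c ?_
    rw [hwv, sum_eq_zero fun j hj => ?_]
    · rcases e0 c with a | a | a <;> rcases eh c with b | b | b <;> rw [a, b] at hc1 ⊢ <;> omega
    · obtain ⟨a, b⟩ := mem_Ico.1 hj
      have h1 : ∑ i, (v 0 i - v h i) * v j i = 0 := by
        rw [sum_congr rfl fun i _ => sub_mul _ _ _, sum_sub_distrib, g0j j a b, ghj j a b, sub_self]
      rw [sum_eq_single c (fun i _ hi => by rw [hrest i hi, zero_mul])
        (fun hc => absurd (mem_univ c) hc), mul_eq_zero] at h1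
      rcases h1 with h1 | h1
      · rw [h1] at hc4; norm_num at hc4
      · rw [h1, mul_zero]
  -- exactly one common index
  obtain ⟨E, hE⟩ : ∃ E, v 0 E * v h E ≠ 0 := by
    by_contra! hall
    rw [sum_eq_zero fun i _ => hall i] at g0h
    norm_num at g0h
  have hE1 : v 0 E * v h E = 1 ∧ ∀ i, i ≠ E → v 0 i * v h i = 0 := by
    rw [← add_sum_erase _ _ (mem_univ E)] at g0h
    have h1 := hnn E
    have h3 : 0 ≤ ∑ x ∈ univ.erase E, v 0 x * v h x := sum_nonneg fun i _ => hnn i
    refine ⟨by omega, fun i hi => ?_⟩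
    exact (sum_eq_zero_iff_of_nonneg fun i _ => hnn i).1 (by omega) i (mem_erase.2 ⟨hi, mem_univ _⟩)
  obtain ⟨hE1, hdisj⟩ := hE1
  have hE0 : v 0 E ≠ 0 := left_ne_zero_of_mul hE
  have hEh : v h E = v 0 E := by
    rcases e0 E with a | a | a <;> rcases eh E with b | b | b <;> rw [a, b] at hE1 ⊢ <;> omega
  set S0 := univ.filter fun i => v 0 i ≠ 0 with hS0
  have hs0 : S0.card = 3 := SecondMain.card_support_of_sum_sq le_rfl g00
  obtain ⟨A1, A2, hA12, hA⟩ := card_eq_two.1 (show (S0.erase E).card = 2 by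
    rw [card_erase_of_mem (show E ∈ S0 from mem_filter.2 ⟨mem_univ _, hE0⟩), hs0])
  set Sh := univ.filter fun i => v h i ≠ 0 with hSh
  have hsh : Sh.card = 3 := SecondMain.card_support_of_sum_sq le_rfl ghh
  obtain ⟨B1, B2, hB12, hB⟩ := card_eq_two.1 (show (Sh.erase E).card = 2 by
    rw [card_erase_of_mem (show E ∈ Sh from mem_filter.2 ⟨mem_univ _, by rw [hEh]; exact hE0⟩), hsh])
  have hAm : ∀ i, i = A1 ∨ i = A2 ↔ i ≠ E ∧ v 0 i ≠ 0 := fun i => by
    have := Finset.ext_iff.1 hA i
    simp [hS0] at this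
    exact this.symm
  have hBm : ∀ i, i = B1 ∨ i = B2 ↔ i ≠ E ∧ v h i ≠ 0 := fun i => by
    have := Finset.ext_iff.1 hB i
    simp [hSh] at this
    exact this.symm
  obtain ⟨hA1E, hA10⟩ := (hAm A1).1 (Or.inl rfl)
  obtain ⟨hA2E, hA20⟩ := (hAm A2).1 (Or.inr rfl)
  obtain ⟨hB1E, hB1h⟩ := (hBm B1).1 (Or.inl rfl)
  obtain ⟨hB2E, hB2h⟩ := (hBm B2).1 (Or.inr rfl)
  have hA1h : v h A1 = 0 := (mul_eq_zero.1 (hdisj A1 hA1E)).resolve_left hA10
  have hA2h : v h A2 = 0 := (mul_eq_zero.1 (hdisj A2 hA2E)).resolve_left hA20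
  have hB10 : v 0 B1 = 0 := (mul_eq_zero.1 (hdisj B1 hB1E)).resolve_right hB1h
  have hB20 : v 0 B2 = 0 := (mul_eq_zero.1 (hdisj B2 hB2E)).resolve_right hB2h
  have h11 : A1 ≠ B1 := fun e => hA10 (e ▸ hB10)
  have h12 : A1 ≠ B2 := fun e => hA10 (e ▸ hB20)
  have h21 : A2 ≠ B1 := fun e => hA20 (e ▸ hB10)
  have h22 : A2 ≠ B2 := fun e => hA20 (e ▸ hB20)
  have hv0 : ∀ i, i ≠ E → i ≠ A1 → i ≠ A2 → v 0 i = 0 := fun i a b c => by
    by_contra hne
    rcases (hAm i).2 ⟨a, hne⟩ with e | e <;> contradiction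
  have hvh : ∀ i, i ≠ E → i ≠ B1 → i ≠ B2 → v h i = 0 := fun i a b c => by
    by_contra hne
    rcases (hBm i).2 ⟨a, hne⟩ with e | e <;> contradiction
  have hdot0 : ∀ u : ι → ℤ, ∑ i, v 0 i * u i = v 0 E * u E + v 0 A1 * u A1 + v 0 A2 * u A2 := fun u => by
    rw [SecondMain.sum_mul_eq_of_support u (S := {E, A1, A2}) fun i hi => by
      simp only [mem_insert, mem_singleton, not_or] at hi
      exact hv0 i hi.1 hi.2.1 hi.2.2]
    rw [sum_insert (by simp [Ne.symm hA1E, Ne.symm hA2E]), sum_pair hA12]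
    ring
  have hdoth : ∀ u : ι → ℤ, ∑ i, v h i * u i = v 0 E * u E + v h B1 * u B1 + v h B2 * u B2 := fun u => by
    rw [SecondMain.sum_mul_eq_of_support u (S := {E, B1, B2}) fun i hi => by
      simp only [mem_insert, mem_singleton, not_or] at hi
      exact hvh i hi.1 hi.2.1 hi.2.2]
    rw [sum_insert (by simp [Ne.symm hB1E, Ne.symm hB2E]), sum_pair hB12, hEh]
    ring
  -- the middle vectors
  have hmid : ∀ j, 2 ≤ j → j < h →
      (v j E = v 0 E ∧ ∃ F, F ≠ E ∧ F ≠ A1 ∧ F ≠ A2 ∧ F ≠ B1 ∧ F ≠ B2 ∧ v j F ≠ 0 ∧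
        ∀ i, i ≠ E → i ≠ F → v j i = 0) ∨
      (∃ p : Bool × Bool, v j (if p.1 then A1 else A2) = v 0 (if p.1 then A1 else A2) ∧
        v j (if p.2 then B1 else B2) = v h (if p.2 then B1 else B2) ∧
        ∀ i, i ≠ (if p.1 then A1 else A2) → i ≠ (if p.2 then B1 else B2) → v j i = 0) := by
    intro j hj hjh
    have k0 := g0j j hj hjh
    have kh := ghj j hj hjh
    rw [hdot0] at k0
    rw [hdoth] at kh
    have sp := fun {i k : ι} => support_pair (gjj j hj hjh) (i := i) (j := k)
    by_cases hjE : v j E = 0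
    · right
      rw [hjE, mul_zero, zero_add] at k0 kh
      obtain ⟨pa, hpa⟩ : ∃ b : Bool, v j (if b then A1 else A2) ≠ 0 := by
        by_contra! hall
        have a := hall true
        have b := hall false
        simp only [if_true, Bool.false_eq_true, if_false] at a b
        rw [a, b] at k0
        norm_num at k0
      obtain ⟨pb, hpb⟩ : ∃ b : Bool, v j (if b then B1 else B2) ≠ 0 := by
        by_contra! hall
        have a := hall true
        have b := hall false
        simp only [if_true, Bool.false_eq_true, if_false] at a b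
        rw [a, b] at kh
        norm_num at kh
      have hne : (if pa then A1 else A2) ≠ (if pb then B1 else B2) := by
        cases pa <;> cases pb <;> simp [h11, h12, h21, h22]
      refine ⟨(pa, pb), ?_, ?_, sp hne hpa hpb⟩
      · cases pa <;> simp only [if_true, Bool.false_eq_true, if_false] at hne hpa ⊢
        · rw [sp hne hpa hpb A1 hA12 (by cases pb <;> simp [h11, h12]), mul_zero, zero_add] at k0
          exact eq_of_mul_one (e0 A2) (ej j hj hjh A2) k0
        · rw [sp hne hpa hpb A2 (Ne.symm hA12) (by cases pb <;> simp [h21, h22]), mul_zero, add_zero] at k0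
          exact eq_of_mul_one (e0 A1) (ej j hj hjh A1) k0
      · cases pb <;> simp only [if_true, Bool.false_eq_true, if_false] at hne hpb ⊢
        · rw [sp hne hpa hpb B1 (by cases pa <;> simp [Ne.symm h11, Ne.symm h21]) hB12, mul_zero,
            zero_add] at kh
          exact eq_of_mul_one (eh B2) (ej j hj hjh B2) kh
        · rw [sp hne hpa hpb B2 (by cases pa <;> simp [Ne.symm h12, Ne.symm h22]) (Ne.symm hB12),
            mul_zero, add_zero] at kh
          exact eq_of_mul_one (eh B1) (ej j hj hjh B1) kh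
    · left
      set S := univ.filter fun i => v j i ≠ 0 with hS
      have hs : S.card = 2 := SecondMain.card_support_of_sum_sq (n := 2) (by norm_num) (by simpa using gjj j hj hjh)
      obtain ⟨F, hF⟩ := card_eq_one.1 (show (S.erase E).card = 1 by
        rw [card_erase_of_mem (show E ∈ S from mem_filter.2 ⟨mem_univ _, hjE⟩), hs])
      obtain ⟨hFE, hFj⟩ : F ≠ E ∧ v j F ≠ 0 := by
        have : F ∈ S.erase E := by simp [hF]
        exact ⟨ne_of_mem_erase this, (mem_filter.1 (mem_of_mem_erase this)).2⟩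
      have hrest := sp (Ne.symm hFE) hjE hFj
      have hFA : F ≠ A1 ∧ F ≠ A2 ∧ F ≠ B1 ∧ F ≠ B2 := by
        refine ⟨?_, ?_, ?_, ?_⟩ <;> rintro rfl
        · rw [hrest A2 hA2E (Ne.symm hA12)] at k0
          exact two_units (pm_of_three (e0 E) hE0) (pm_of_three (ej j hj hjh E) hjE)
            (pm_of_three (e0 F) ‹_›) (pm_of_three (ej j hj hjh F) hFj) (by linarith)
        · rw [hrest A1 hA1E hA12] at k0
          exact two_units (pm_of_three (e0 E) hE0) (pm_of_three (ej j hj hjh E) hjE)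
            (pm_of_three (e0 F) ‹_›) (pm_of_three (ej j hj hjh F) hFj) (by linarith)
        · rw [hrest B2 hB2E (Ne.symm hB12)] at kh
          exact two_units (pm_of_three (e0 E) hE0) (pm_of_three (ej j hj hjh E) hjE)
            (pm_of_three (eh F) ‹_›) (pm_of_three (ej j hj hjh F) hFj) (by linarith)
        · rw [hrest B1 hB1E hB12] at kh
          exact two_units (pm_of_three (e0 E) hE0) (pm_of_three (ej j hj hjh E) hjE)
            (pm_of_three (eh F) ‹_›) (pm_of_three (ej j hj hjh F) hFj) (by linarith)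
      refine ⟨?_, F, hFE, hFA.1, hFA.2.1, hFA.2.2.1, hFA.2.2.2, hFj, hrest⟩
      rw [hrest A1 hA1E (Ne.symm hFA.1), hrest A2 hA2E (Ne.symm hFA.2.1)] at k0
      rcases ej j hj hjh E with a | a | a <;> rcases e0 E with b | b | b <;> rw [a, b] at k0 ⊢ <;> omega
  by_cases htwo : ∃ k, 2 ≤ k ∧ k < h ∧ v k E = 0
  · -- the exceptional case
    right
    obtain ⟨k, hk, hkh, hkE⟩ := htwo
    obtain ⟨p, -, -, hpr⟩ := (hmid k hk hkh).resolve_left fun e => hE0 (hkE ▸ e.1).symm
    have hall : ∀ j, 2 ≤ j → j < h → ∃ p : Bool × Bool,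
        v j (if p.1 then A1 else A2) = v 0 (if p.1 then A1 else A2) ∧
        v j (if p.2 then B1 else B2) = v h (if p.2 then B1 else B2) ∧
        ∀ i, i ≠ (if p.1 then A1 else A2) → i ≠ (if p.2 then B1 else B2) → v j i = 0 := by
      intro j hj hjh
      refine (hmid j hj hjh).resolve_left ?_
      rintro ⟨e1, F, hF1, hF2, hF3, hF4, hF5, -, hrest⟩
      have hjk : k ≠ j := fun e => hE0 (by rw [← e1, ← e, hkE])
      have hg := gjk k j hk hkh hj hjh hjk
      rw [sum_eq_zero fun i _ => ?_] at hg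
      · norm_num at hg
      by_cases hiE : i = E
      · rw [hiE, hkE, zero_mul]
      by_cases hiF : i = F
      · rw [hiF, hpr F (by split_ifs <;> assumption) (by split_ifs <;> assumption), zero_mul]
      · rw [hrest i hiE hiF, mul_zero]
    choose q hqa hqb hqr using hall
    have hAv : ∀ (b : Bool), v 0 (if b then A1 else A2) * v 0 (if b then A1 else A2) = 1 := by
      intro b
      cases b
      · exact sq_of_three (e0 A2) hA20
      · exact sq_of_three (e0 A1) hA10
    have hBv : ∀ (b : Bool), v h (if b then B1 else B2) * v h (if b then B1 else B2) = 1 := by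
      intro b
      cases b
      · exact sq_of_three (eh B2) hB2h
      · exact sq_of_three (eh B1) hB1h
    have hshare : ∀ j i hj hjh hi hih, j ≠ i → q j hj hjh ≠ q i hi hih ∧
        ((q j hj hjh).1 = (q i hi hih).1 ∨ (q j hj hjh).2 = (q i hi hih).2) := by
      intro j i hj hjh hi hih hne
      have hg := gjk j i hj hjh hi hih hne
      have hab : (if (q j hj hjh).1 then A1 else A2) ≠ (if (q j hj hjh).2 then B1 else B2) := by
        split_ifs <;> assumption
      rw [SecondMain.sum_mul_eq_of_support (v i) (S := {(if (q j hj hjh).1 then A1 else A2),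
        (if (q j hj hjh).2 then B1 else B2)}) (fun l hl => by
          simp only [mem_insert, mem_singleton, not_or] at hl
          exact hqr j hj hjh l hl.1 hl.2), sum_pair hab] at hg
      refine ⟨fun e => ?_, ?_⟩
      · rw [hqa j hj hjh, hqb j hj hjh, e, hqa i hi hih, hqb i hi hih, hAv, hBv] at hg
        norm_num at hg
      · by_contra hno
        push Not at hno
        rw [hqr i hi hih (if (q j hj hjh).1 then A1 else A2) ?_ ?_,
          hqr i hi hih (if (q j hj hjh).2 then B1 else B2) ?_ ?_] at hg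
        · norm_num at hg
        all_goals
          obtain ⟨h5, h6⟩ := hno
          revert h5 h6
          generalize (q j hj hjh).1 = e1
          generalize (q j hj hjh).2 = e2
          generalize (q i hi hih).1 = e3
          generalize (q i hi hih).2 = e4
          cases e1 <;> cases e2 <;> cases e3 <;> cases e4 <;>
            simp [h11, h12, h21, h22, hA12, hB12, Ne.symm hA12, Ne.symm hB12, Ne.symm h11,
              Ne.symm h12, Ne.symm h21, Ne.symm h22]
    obtain ⟨r, hr⟩ := hev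
    have h4 : h = 4 := by
      by_contra hne
      obtain ⟨n1, s1⟩ := hshare 2 3 (by norm_num) (by omega) (by norm_num) (by omega) (by norm_num)
      obtain ⟨n2, s2⟩ := hshare 2 4 (by norm_num) (by omega) (by norm_num) (by omega) (by norm_num)
      obtain ⟨n3, s3⟩ := hshare 3 4 (by norm_num) (by omega) (by norm_num) (by omega) (by norm_num)
      exact no_three _ _ _ n1 n2 n3 s1 s2 s3
    refine ⟨h4, ?_⟩
    have hU : (univ : Finset ι) = {E, A1, A2, B1, B2} := by
      refine (Subset.antisymm (subset_univ _) fun i _ => ?_).symm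
      by_contra hi
      simp only [mem_insert, mem_singleton, not_or] at hi
      refine hw i ?_
      rw [hwv, hv0 i hi.1 hi.2.1 hi.2.2.1, hvh i hi.1 hi.2.2.2.1 hi.2.2.2.2, sum_eq_zero fun j hj => ?_]
      · norm_num
      obtain ⟨hj1, hj2⟩ := mem_Ico.1 hj
      rw [hqr j hj1 hj2 i (by split_ifs <;> tauto) (by split_ifs <;> tauto), mul_zero]
    refine ⟨?_, fun δ hδ hor => ?_⟩
    · rw [← card_univ, hU]
      simp [hA12, hB12, h11, h12, h21, h22, Ne.symm hA1E, Ne.symm hA2E, Ne.symm hB1E, Ne.symm hB2E]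
    have hall : ∀ i, i = E ∨ i = A1 ∨ i = A2 ∨ i = B1 ∨ i = B2 := fun i => by
      simpa [hU] using mem_univ i
    subst h4
    obtain ⟨n1, s1⟩ := hshare 2 3 (by norm_num) (by omega) (by norm_num) (by omega) (by norm_num)
    have hw4 : ∀ i, w i = v 0 i + v 4 i + 2 * (v 2 i - v 3 i) := fun i => by
      rw [hwv, sum_Ico_succ_top (by norm_num), sum_Ico_succ_top (by norm_num), Ico_self, sum_empty]
      ring
    have ho2 := hor 2 (by norm_num) (by norm_num)
    have ho3 := hor 3 (by norm_num) (by norm_num)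
    have ho0 := hor 0 (by norm_num) (by norm_num)
    have ho4 := hor 4 (by norm_num) (by norm_num)
    have a2 := hqa 2 (by norm_num) (by norm_num)
    have b2 := hqb 2 (by norm_num) (by norm_num)
    have r2 := hqr 2 (by norm_num) (by norm_num)
    have a3 := hqa 3 (by norm_num) (by norm_num)
    have b3 := hqb 3 (by norm_num) (by norm_num)
    have r3 := hqr 3 (by norm_num) (by norm_num)
    generalize q 2 (by norm_num) (by norm_num) = p2 at a2 b2 r2 n1 s1
    generalize q 3 (by norm_num) (by norm_num) = p3 at a3 b3 r3 n1 s1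
    obtain ⟨x2, y2⟩ := p2
    obtain ⟨x3, y3⟩ := p3
    simp only at a2 b2 r2 a3 b3 r3 s1
    rcases s1 with rfl | rfl
    · have hy : y3 = !y2 := by
        cases y2 <;> cases y3 <;> simp at n1 <;> rfl
      subst hy
      have e3 : (if (!y2) = true then B1 else B2) = if y2 = true then B2 else B1 := by cases y2 <;> rfl
      rw [e3] at b3 r3
      exact five_value (E := E) (a := if x2 = true then A1 else A2) (a' := if x2 = true then A2 else A1)
        (b := if y2 = true then B1 else B2) (b' := if y2 = true then B2 else B1)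
        (fun i => by cases x2 <;> cases y2 <;> simp <;> have := hall i <;> tauto)
        (by split_ifs <;> apply Ne.symm <;> assumption) (by split_ifs <;> apply Ne.symm <;> assumption)
        (by split_ifs <;> apply Ne.symm <;> assumption) (by split_ifs <;> apply Ne.symm <;> assumption)
        (by cases x2 <;> simp [hA12, Ne.symm hA12])
        (by cases x2 <;> cases y2 <;> simp [h11, h12, h21, h22])
        (by cases x2 <;> cases y2 <;> simp [h11, h12, h21, h22])
        (by cases x2 <;> cases y2 <;> simp [h11, h12, h21, h22])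
        (by cases x2 <;> cases y2 <;> simp [h11, h12, h21, h22])
        (by cases y2 <;> simp [hB12, Ne.symm hB12])
        (v 0) (v 4) (v 2) (v 3) hEh
        (by cases y2 <;> simp [hB10, hB20]) (by cases y2 <;> simp [hB10, hB20])
        (by cases x2 <;> simp [hA1h, hA2h]) (by cases x2 <;> simp [hA1h, hA2h])
        (sq_of_three (e0 E) hE0) (hAv x2) (by cases x2; exacts [hAv true, hAv false])
        (hBv y2) (by cases y2; exacts [hBv true, hBv false])
        a2 b2 r2 a3 b3 r3 w _ hw4 (fun i => rfl) δ hδ ho0 ho4 ho2 ho3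
    · have hx : x3 = !x2 := by
        cases x2 <;> cases x3 <;> simp at n1 <;> rfl
      subst hx
      have e3 : (if (!x2) = true then A1 else A2) = if x2 = true then A2 else A1 := by cases x2 <;> rfl
      rw [e3] at a3 r3
      obtain ⟨t, ht, hT⟩ := five_value (E := E) (a := if y2 = true then B1 else B2)
        (a' := if y2 = true then B2 else B1)
        (b := if x2 = true then A1 else A2) (b' := if x2 = true then A2 else A1)
        (fun i => by cases x2 <;> cases y2 <;> simp <;> have := hall i <;> tauto)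
        (by split_ifs <;> apply Ne.symm <;> assumption) (by split_ifs <;> apply Ne.symm <;> assumption)
        (by split_ifs <;> apply Ne.symm <;> assumption) (by split_ifs <;> apply Ne.symm <;> assumption)
        (by cases y2 <;> simp [hB12, Ne.symm hB12])
        (by cases x2 <;> cases y2 <;> simp [Ne.symm h11, Ne.symm h12, Ne.symm h21, Ne.symm h22])
        (by cases x2 <;> cases y2 <;> simp [Ne.symm h11, Ne.symm h12, Ne.symm h21, Ne.symm h22])
        (by cases x2 <;> cases y2 <;> simp [Ne.symm h11, Ne.symm h12, Ne.symm h21, Ne.symm h22])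
        (by cases x2 <;> cases y2 <;> simp [Ne.symm h11, Ne.symm h12, Ne.symm h21, Ne.symm h22])
        (by cases x2 <;> simp [hA12, Ne.symm hA12])
        (v 4) (v 0) (v 2) (v 3) hEh.symm
        (by cases x2 <;> simp [hA1h, hA2h]) (by cases x2 <;> simp [hA1h, hA2h])
        (by cases y2 <;> simp [hB10, hB20]) (by cases y2 <;> simp [hB10, hB20])
        (by rw [hEh]; exact sq_of_three (e0 E) hE0) (hBv y2) (by cases y2; exacts [hBv true, hBv false])
        (hAv x2) (by cases x2; exacts [hAv true, hAv false])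
        b2 a2 (fun i p q => r2 i q p) b3 a3 (fun i p q => r3 i q p) w
        (fun i => v 0 i + v 4 i - 2 * v 2 i) (fun i => by rw [hw4]; ring) (fun i => by ring) δ hδ ho4 ho0 ho2 ho3
      exact ⟨t, ht, hT⟩
  · -- the standard case
    left
    push Not at htwo
    have hstd : ∀ j, 2 ≤ j → j < h → v j E = v 0 E ∧ ∃ F, F ≠ E ∧ F ≠ A1 ∧ F ≠ A2 ∧ F ≠ B1 ∧ F ≠ B2 ∧
        v j F ≠ 0 ∧ ∀ i, i ≠ E → i ≠ F → v j i = 0 := by
      intro j hj hjh
      refine (hmid j hj hjh).resolve_right ?_
      rintro ⟨p, -, -, hr⟩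
      exact htwo j hj hjh (hr E (by split_ifs <;> [exact hA1E.symm; exact hA2E.symm])
        (by split_ifs <;> [exact hB1E.symm; exact hB2E.symm]))
    choose hjE F hFE hFA1 hFA2 hFB1 hFB2 hFj hrest using hstd
    have hee : v 0 E * v 0 E = 1 := sq_of_three (e0 E) hE0
    have hFinj : ∀ j i hj hjh hi hih, F j hj hjh = F i hi hih → j = i := by
      intro j i hj hjh hi hih e
      by_contra hne
      have hg := gjk j i hj hjh hi hih hne
      rw [SecondMain.sum_mul_eq_of_support (v i) (S := {E, F j hj hjh}) (fun l hl => by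
          simp only [mem_insert, mem_singleton, not_or] at hl
          exact hrest j hj hjh l hl.1 hl.2), sum_pair (Ne.symm (hFE j hj hjh)), hjE j hj hjh,
        hjE i hi hih, hee] at hg
      have : v j (F j hj hjh) * v i (F i hi hih) = 0 := by rw [e] at hg ⊢; linarith
      exact (mul_ne_zero (hFj j hj hjh) (hFj i hi hih)) this
    let T : Finset ι := (Ico 2 h).attach.image fun j => F j.1 (mem_Ico.1 j.2).1 (mem_Ico.1 j.2).2
    have hT : T.card = h - 2 := by
      rw [card_image_of_injective _ fun j i e => Subtype.ext (hFinj _ _ _ _ _ _ e), card_attach,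
        Nat.card_Ico]
    have hnT : ∀ x, (x = E ∨ x = A1 ∨ x = A2 ∨ x = B1 ∨ x = B2) → x ∉ T := by
      intro x hx hxT
      obtain ⟨⟨j, hj⟩, -, rfl⟩ := mem_image.1 hxT
      obtain ⟨a, b⟩ := mem_Ico.1 hj
      rcases hx with e | e | e | e | e
      exacts [hFE j a b e, hFA1 j a b e, hFA2 j a b e, hFB1 j a b e, hFB2 j a b e]
    have hout : ∀ i, i ∉ T → i ≠ E → ∀ j, j ∈ Ico 2 h → v j i = 0 := fun i hi hiE j hj =>
      hrest j (mem_Ico.1 hj).1 (mem_Ico.1 hj).2 i hiE
        fun e => hi (mem_image.2 ⟨⟨j, hj⟩, mem_attach _ _, e.symm⟩)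
    have hU : (univ : Finset ι) = {E, A1, A2, B1, B2} ∪ T := by
      refine (Subset.antisymm (subset_univ _) fun i _ => ?_).symm
      by_contra hi
      simp only [mem_union, mem_insert, mem_singleton, not_or] at hi
      obtain ⟨⟨i1, i2, i3, i4, i5⟩, iT⟩ := hi
      refine hw i ?_
      rw [hwv, hv0 i i1 i2 i3, hvh i i1 i4 i5, sum_eq_zero fun j hj => by rw [hout i iT i1 j hj, mul_zero]]
      norm_num
    have h5 : ({E, A1, A2, B1, B2} : Finset ι).card = 5 := by
      simp [hA12, hB12, h11, h12, h21, h22, Ne.symm hA1E, Ne.symm hA2E, Ne.symm hB1E, Ne.symm hB2E]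
    have hdisjT : Disjoint ({E, A1, A2, B1, B2} : Finset ι) T := disjoint_left.2 fun x hx =>
      hnT x (by simpa using hx)
    have wE : w E = 2 * v 0 E := by
      rw [hwv, hEh, sum_congr rfl fun j hj => by rw [hjE j (mem_Ico.1 hj).1 (mem_Ico.1 hj).2], ← sum_mul,
        sum_alt hev h2]
      ring
    have wAB : ∀ i, (i = A1 ∨ i = A2 ∨ i = B1 ∨ i = B2) → w i = 1 ∨ w i = -1 := by
      intro i hi
      have hiT : i ∉ T := hnT i (by tauto)
      have hiE : i ≠ E := by rcases hi with rfl | rfl | rfl | rfl <;> assumption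
      rw [hwv, sum_eq_zero fun j hj => by rw [hout i hiT hiE j hj, mul_zero]]
      rcases hi with rfl | rfl | rfl | rfl
      · rw [hA1h]; simpa using pm_of_three (e0 i) hA10
      · rw [hA2h]; simpa using pm_of_three (e0 i) hA20
      · rw [hB10]; simpa using pm_of_three (eh i) hB1h
      · rw [hB20]; simpa using pm_of_three (eh i) hB2h
    have wT : ∀ i ∈ T, w i = 2 ∨ w i = -2 := by
      intro i hi
      obtain ⟨⟨j, hj⟩, -, rfl⟩ := mem_image.1 hi
      obtain ⟨ha, hb⟩ := mem_Ico.1 hj
      rw [hwv, hv0 _ (hFE j ha hb) (hFA1 j ha hb) (hFA2 j ha hb), hvh _ (hFE j ha hb) (hFB1 j ha hb)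
        (hFB2 j ha hb), sum_eq_single j]
      · rcases neg_one_pow_eq_or ℤ j with e | e <;> rcases ej j ha hb (F j ha hb) with a | a | a <;>
          first | exact absurd a (hFj j ha hb) | (rw [e, a]; norm_num)
      · intro l hl hlj
        rw [hrest l (mem_Ico.1 hl).1 (mem_Ico.1 hl).2 _ (hFE j ha hb)
          (fun e => hlj (hFinj _ _ _ _ _ _ e).symm), mul_zero]
      · exact fun hn => absurd hj hn
    have hcases : ∀ i, i = E ∨ (i = A1 ∨ i = A2 ∨ i = B1 ∨ i = B2) ∨ i ∈ T := fun i => by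
      have := mem_univ i
      rw [hU] at this
      simp only [mem_union, mem_insert, mem_singleton] at this
      tauto
    have hOdd : (univ.filter fun i => Odd (w i)) = {A1, A2, B1, B2} := by
      ext i
      simp only [mem_filter, mem_univ, true_and, mem_insert, mem_singleton]
      constructor
      · intro ho
        rcases hcases i with rfl | hi | hi
        · rw [wE] at ho; exact absurd ho (Int.not_odd_iff_even.2 (even_two_mul _))
        · exact hi
        · rcases wT i hi with a | a <;> rw [a] at ho <;> exact absurd ho (by decide)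
      · intro hi
        rcases wAB i hi with a | a <;> rw [a] <;> decide
    refine ⟨?_, fun i => ?_, ?_, ?_⟩
    · rw [← card_univ, hU, card_union_of_disjoint hdisjT, h5, hT]
      omega
    · rcases hcases i with rfl | hi | hi
      · rcases e0 i with a | a | a
        · rw [wE, a]; norm_num
        · exact absurd a hE0
        · rw [wE, a]; norm_num
      · rcases wAB i hi with a | a <;> simp [a]
      · rcases wT i hi with a | a <;> simp [a]
    · rw [hOdd]
      simp [hA12, hB12, h11, h12, h21, h22]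
    · let s : ι → ℤ := fun i => if i = E then -v 0 E else if v 0 i ≠ 0 then v 0 i else
        if v h i ≠ 0 then v h i else ∑ j ∈ Ico 2 h, v j i
      have hTmem : ∀ i ∈ T, ∃ j, ∃ (a : 2 ≤ j) (b : j < h), F j a b = i := fun i hi => by
        obtain ⟨⟨j, hj⟩, -, rfl⟩ := mem_image.1 hi
        exact ⟨j, (mem_Ico.1 hj).1, (mem_Ico.1 hj).2, rfl⟩
      have hsT : ∀ j (a : 2 ≤ j) (b : j < h), s (F j a b) = v j (F j a b) := by
        intro j a b
        show ite _ _ _ = _
        rw [if_neg (hFE j a b), if_neg (not_not.2 (hv0 _ (hFE j a b) (hFA1 j a b) (hFA2 j a b))),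
          if_neg (not_not.2 (hvh _ (hFE j a b) (hFB1 j a b) (hFB2 j a b))), sum_eq_single j]
        · intro l hl hlj
          exact hrest l (mem_Ico.1 hl).1 (mem_Ico.1 hl).2 _ (hFE j a b)
            fun e => hlj (hFinj _ _ _ _ _ _ e).symm
        · exact fun hn => absurd (mem_Ico.2 ⟨a, b⟩) hn
      have hsE : s E = -v 0 E := if_pos rfl
      have hsA : ∀ i, i = A1 ∨ i = A2 → s i = v 0 i := fun i hi => by
        obtain ⟨h1, h2⟩ := (hAm i).1 hi
        show ite _ _ _ = _
        rw [if_neg h1, if_pos h2]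
      have hsB : ∀ i, i = B1 ∨ i = B2 → s i = v h i := fun i hi => by
        obtain ⟨h1, h2⟩ := (hBm i).1 hi
        show ite _ _ _ = _
        rw [if_neg h1, if_neg (not_not.2 ((mul_eq_zero.1 (hdisj i h1)).resolve_right h2)), if_pos h2]
      refine ⟨s, A1, A2, B1, B2, ⟨hA12, hB12, h11, h12, h21, h22⟩, fun i => by simpa using Finset.ext_iff.1 hOdd i, fun i => ?_, fun δ hδ => ?_⟩
      · rcases hcases i with rfl | (rfl | rfl | rfl | rfl) | hi
        · rw [hsE, neg_mul_neg, hee]
        · rw [hsA _ (Or.inl rfl)]; exact sq_of_three (e0 _) hA10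
        · rw [hsA _ (Or.inr rfl)]; exact sq_of_three (e0 _) hA20
        · rw [hsB _ (Or.inl rfl)]; exact sq_of_three (eh _) hB1h
        · rw [hsB _ (Or.inr rfl)]; exact sq_of_three (eh _) hB2h
        · obtain ⟨j, a, b, rfl⟩ := hTmem i hi
          rw [hsT]; exact sq_of_three (ej j a b _) (hFj j a b)
      have d0 := hδ 0 (by omega) (by omega)
      have dh := hδ h le_rfl (by omega)
      rw [sum_congr rfl fun i _ => mul_comm _ _, ← sum_subset (subset_univ {E, A1, A2}) fun i _ hi => by
          simp only [mem_insert, mem_singleton, not_or] at hi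
          rw [hv0 i hi.1 hi.2.1 hi.2.2, Int.cast_zero, zero_mul],
        sum_insert (by simp [Ne.symm hA1E, Ne.symm hA2E]), sum_pair hA12] at d0
      rw [sum_congr rfl fun i _ => mul_comm _ _, ← sum_subset (subset_univ {E, B1, B2}) fun i _ hi => by
          simp only [mem_insert, mem_singleton, not_or] at hi
          rw [hvh i hi.1 hi.2.1 hi.2.2, Int.cast_zero, zero_mul],
        sum_insert (by simp [Ne.symm hB1E, Ne.symm hB2E]), sum_pair hB12, hEh] at dh
      rw [hsA A1 (Or.inl rfl), hsA A2 (Or.inr rfl), hsB B1 (Or.inl rfl), hsB B2 (Or.inr rfl)]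
      refine ⟨by linear_combination d0 - dh, fun i hi => ?_⟩
      rcases hcases i with rfl | hi' | hi'
      · rw [hsE, Int.cast_neg]; linear_combination -d0
      · exact absurd (show i ∈ univ.filter fun i => Odd (w i) by rw [hOdd]; simpa using hi') (by simp [hi])
      · obtain ⟨j, a, b, rfl⟩ := hTmem i hi'
        have dj := hδ j b.le (by omega)
        rw [sum_congr rfl fun i _ => mul_comm _ _, ← sum_subset (subset_univ {E, F j a b}) fun i _ hi => by
            simp only [mem_insert, mem_singleton, not_or] at hi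
            rw [hrest j a b i hi.1 hi.2, Int.cast_zero, zero_mul],
          sum_pair (Ne.symm (hFE j a b)), hjE j a b] at dj
        rw [hsT]; linear_combination dj - d0

end Cfsg.Agent.DihedralDefect
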