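import Cfsg.Agent.Lib.OW.Cyclic
import Cfsg.Agent.Lib.Fong.Block
import Cfsg.Agent.Lib.SecondMain.Rank

/-!
# The rank of a set of characters over an invariant character of a `p'`-subgroup

`blockRank_le_classes`: it is at most the number of classes of `p`-regular elements of the quotient.
-/

set_option autoImplicit false
set_option linter.unusedSectionVars false
set_option maxHeartbeats 1000000

namespace Cfsg.Agent.RankClasses

open Cfsg Cfsg.Agent.Blocks
open scoped ComplexConjugate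

attribute [local instance 2000] Fintype.ofFinite

variable {G : Type*} [Group G] [Finite G] {p : ℕ} [Fact p.Prime] {M : Ideal AlgInt}
  {N : Subgroup G} [hN : N.Normal] {θ : IrrCharacter N}

theorem constituent_eq (hM : IsPModular p M) (hpN : ¬ p ∣ Nat.card N) (hinv : Fong.Invariant N θ)
    {χ : IrrCharacter G} (hχ : classInner (fun n : N => (χ : G → ℂ) n) (θ : N → ℂ) ≠ 0)
    {ψ : IrrCharacter N} (hψ : classInner (fun n : N => (χ : G → ℂ) n) (ψ : N → ℂ) ≠ 0) : ψ = θ := by
  obtain ⟨g, hg⟩ := BlocksNormal.exists_conjIrr_mem_of_sameBlock N hM (Fong.isPBlock_singleton hM hpN θ)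
    (χ := χ) (χ' := χ) (mem_blockOf_self hM χ) (θ := θ) (Set.mem_singleton θ) hχ hψ
  rw [Set.mem_singleton_iff] at hg
  have hfix : BlocksNormal.conjIrr N g⁻¹ θ = θ := Subtype.ext (funext fun n => by
    show CliffordChar.conjFun N g⁻¹ (θ : N → ℂ) n = _
    simp only [CliffordChar.conjFun, inv_inv]
    exact hinv _ n)
  have h := congrArg (BlocksNormal.conjIrr N g⁻¹) hg
  rwa [← BlocksNormal.conjIrr_mul, inv_mul_cancel, BlocksNormal.conjIrr_one, hfix] at h

/-- On a coset of a `p'`-element all characters over `θ` are multiples of one function. -/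
theorem exists_point (hM : IsPModular p M) (hpN : ¬ p ∣ Nat.card N) (hinv : Fong.Invariant N θ) (x : G) :
    ∃ k ∈ N, ∀ χ : IrrCharacter G, classInner (fun n : N => (χ : G → ℂ) n) (θ : N → ℂ) ≠ 0 →
      ∃ c : N → ℂ, ∀ n : N, (χ : G → ℂ) (n * x) = c n * (χ : G → ℂ) (k * x) ∧
        ∀ χ' : IrrCharacter G, classInner (fun n : N => (χ' : G → ℂ) n) (θ : N → ℂ) ≠ 0 →
          (χ' : G → ℂ) (n * x) = c n * (χ' : G → ℂ) (k * x) := by
  classical
  set L := N ⊔ Subgroup.zpowers x with hL
  set q := orderOf (x : G ⧸ N) with hq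
  have hle : N ≤ L := le_sup_left
  have hmem : x ∈ L := (le_sup_right : Subgroup.zpowers x ≤ L) (Subgroup.mem_zpowers x)
  have hgen : ∀ g ∈ L, ∃ i : ℕ, g * (x ^ i)⁻¹ ∈ N := by
    intro g hg
    obtain ⟨n, hn, y, hy, rfl⟩ := Subgroup.mem_sup_of_normal_left.1 hg
    obtain ⟨i, rfl⟩ := (Submonoid.mem_powers_iff _ _).1 (mem_powers_iff_mem_zpowers.2 hy)
    exact ⟨i, by rwa [mul_inv_cancel_right]⟩
  have hC : OW.Cyc N L x q := ⟨hle, fun g _ => by rw [Subgroup.normalizer_eq_top]; trivial, hmem, hgen,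
    fun i => by rw [← QuotientGroup.eq_one_iff, QuotientGroup.mk_pow, hq, orderOf_dvd_iff_pow_eq_one]⟩
  obtain ⟨lam, hlam⟩ := OW.exists_ext hle hC.norm hmem hgen θ fun r _ n hn => by
    rw [OW.E_of_mem θ hn, OW.E_of_mem θ (hN.conj_mem n hn r)]
    exact hinv r ⟨n, hn⟩
  have hsum := hC.csum_ext_self hlam hmem
  obtain ⟨k, hk⟩ : ∃ k : N, OW.E lam ((k : G) * x) ≠ 0 := by
    by_contra! h
    rw [OW.csum, Finset.sum_eq_zero fun k _ => by rw [h k, zero_mul]] at hsum
    exact Nat.card_pos.ne' (Nat.cast_eq_zero.1 hsum.symm)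
  have halpha : ∀ χ : IrrCharacter G, classInner (fun n : N => (χ : G → ℂ) n) (θ : N → ℂ) ≠ 0 →
      ∃ α : ℂ, ∀ n ∈ N, (χ : G → ℂ) (n * x) = α * OW.E lam (n * x) := by
    intro χ hχ
    have hch : OW.IsCh L (χ : G → ℂ) :=
      Char.IsCharacter.restrict (Char.IsIrrCharacter.isCharacter χ.2) L
    refine hC.exists_alpha hlam hch (fun η hη => ?_) hmem
    intro h0
    have hdeg := OW.deg_eq_sum hle η
    obtain ⟨ψ, -, hψ⟩ := Finset.exists_ne_zero_of_sum_ne_zero (hdeg ▸ (OW.deg_pos η).ne')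
    have hψ0 : OW.mu N (χ : G → ℂ) (OW.E ψ) ≠ 0 := by
      rw [OW.mu_trans hle hch]
      refine fun e => left_ne_zero_of_mul hψ ?_
      exact (Nat.mul_eq_zero.1 (Finset.sum_eq_zero_iff.1 e η (Finset.mem_univ _))).resolve_left hη
    have hψθ : ψ = θ := constituent_eq hM hpN hinv hχ fun e => hψ0 (by
      unfold OW.mu OW.ip
      rw [OW.rs_E]
      show ⌊(classInner (fun n : N => (χ : G → ℂ) n) (ψ : N → ℂ)).re⌋₊ = 0
      rw [e]
      simp)
    exact left_ne_zero_of_mul hψ (hψθ ▸ h0)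
  refine ⟨k, k.2, fun χ hχ => ⟨fun n => OW.E lam ((n : G) * x) / OW.E lam ((k : G) * x), fun n => ?_⟩⟩
  have key : ∀ χ : IrrCharacter G, classInner (fun n : N => (χ : G → ℂ) n) (θ : N → ℂ) ≠ 0 →
      (χ : G → ℂ) (n * x) = OW.E lam ((n : G) * x) / OW.E lam ((k : G) * x) * (χ : G → ℂ) (k * x) := by
    intro χ hχ
    obtain ⟨α, hα⟩ := halpha χ hχ
    rw [hα n n.2, hα k k.2]
    field_simp
  exact ⟨key χ hχ, key⟩

/-- The rank is at most the number of regular classes of the quotient. -/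
theorem blockRank_le_classes (hM : IsPModular p M) (hpN : ¬ p ∣ Nat.card N) (hinv : Fong.Invariant N θ)
    {B : Set (IrrCharacter G)}
    (hcov : ∀ χ ∈ B, classInner (fun n : N => (χ : G → ℂ) n) (θ : N → ℂ) ≠ 0) :
    blockRank p B ≤ Nat.card {C : ConjClasses (G ⧸ N) // ∃ q, ConjClasses.mk q = C ∧ ¬ p ∣ orderOf q} := by
  classical
  set I := {C : ConjClasses (G ⧸ N) // ∃ q, ConjClasses.mk q = C ∧ ¬ p ∣ orderOf q}
  have hI : ∀ C : I, ∃ x : G, ConjClasses.mk (x : G ⧸ N) = C.1 ∧ ¬ p ∣ orderOf (x : G ⧸ N) := fun C => by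
    obtain ⟨q, hq, hq'⟩ := C.2
    obtain ⟨x, rfl⟩ := QuotientGroup.mk'_surjective N q
    exact ⟨x, hq, hq'⟩
  choose x hx hxr using hI
  choose k hk hc using fun C : I => exists_point hM hpN hinv (x C)
  let ev : (G → ℂ) →ₗ[ℂ] (I → ℂ) :=
    { toFun := fun f C => f (k C * x C)
      map_add' := fun _ _ => rfl
      map_smul' := fun _ _ => rfl }
  set V := Submodule.span ℂ ((fun χ : IrrCharacter G => pRegularPart p (χ : G → ℂ)) '' B)
  have hreg : ∀ C : I, ∀ n ∈ N, ¬ p ∣ orderOf (n * x C) := by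
    intro C n hn h
    have h1 : ((n * x C : G) : G ⧸ N) = (x C : G ⧸ N) := by
      rw [QuotientGroup.mk_mul, (QuotientGroup.eq_one_iff n).2 hn, one_mul]
    have h2 : (n * x C) ^ orderOf (x C : G ⧸ N) ∈ N := by
      rw [← QuotientGroup.eq_one_iff, QuotientGroup.mk_pow, h1, pow_orderOf_eq_one]
    have h3 : orderOf (n * x C) ∣ orderOf (x C : G ⧸ N) * Nat.card N := orderOf_dvd_of_pow_eq_one (by
      rw [pow_mul]
      exact congrArg Subtype.val (pow_card_eq_one' (x := (⟨_, h2⟩ : N))))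
    rcases (Fact.out : p.Prime).dvd_mul.1 (h.trans h3) with h' | h'
    exacts [hxr C h', hpN h']
  have hinj : Function.Injective (ev.domRestrict V) := by
    rw [← LinearMap.ker_eq_bot, LinearMap.ker_eq_bot']
    rintro ⟨f, hf⟩ h0
    -- class functions, vanishing at singular elements, proportional on the cosets
    have key : (∀ a g : G, f (g * a * g⁻¹) = f a) ∧ (∀ g, p ∣ orderOf g → f g = 0) ∧
        ∀ C : I, ∀ n : N, ∀ χ : IrrCharacter G, ∀ hχ : χ ∈ B,
          f ((n : G) * x C) = Classical.choose (hc C χ (hcov χ hχ)) n * f (k C * x C) := by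
      clear h0
      induction hf using Submodule.span_induction with
      | mem f hf =>
        obtain ⟨ξ, hξ, rfl⟩ := hf
        refine ⟨fun a g => ?_, fun g hg => SecondMain.pRegularPart_of_singular hg, fun C n χ hχ => ?_⟩
        · beta_reduce
          by_cases ha : p ∣ orderOf a
          · rw [SecondMain.pRegularPart_of_singular ha,
              SecondMain.pRegularPart_of_singular (by rwa [SecondMain.orderOf_conj])]
          · rw [SecondMain.pRegularPart_of_regular ha,
              SecondMain.pRegularPart_of_regular (by rwa [SecondMain.orderOf_conj]), irr_class ξ a g]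
        · beta_reduce
          rw [SecondMain.pRegularPart_of_regular (hreg C n n.2),
            SecondMain.pRegularPart_of_regular (hreg C (k C) (hk C))]
          exact (Classical.choose_spec (hc C χ (hcov χ hχ)) n).2 ξ (hcov ξ hξ)
      | zero => exact ⟨fun _ _ => rfl, fun _ _ => rfl, fun _ _ _ _ => (mul_zero _).symm⟩
      | add f f' _ _ h h' =>
        exact ⟨fun a g => by simp only [Pi.add_apply, h.1, h'.1], fun g hg => by
          rw [Pi.add_apply, h.2.1 g hg, h'.2.1 g hg, add_zero], fun C n χ hχ => by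
          rw [Pi.add_apply, Pi.add_apply, h.2.2 C n χ hχ, h'.2.2 C n χ hχ, mul_add]⟩
      | smul c f _ h =>
        exact ⟨fun a g => by simp only [Pi.smul_apply, h.1], fun g hg => by
          rw [Pi.smul_apply, h.2.1 g hg, smul_zero], fun C n χ hχ => by
          simp only [Pi.smul_apply, smul_eq_mul, h.2.2 C n χ hχ]; ring⟩
    refine Subtype.ext (funext fun g => ?_)
    show f g = 0
    by_cases hg : p ∣ orderOf g
    · exact key.2.1 g hg
    rcases B.eq_empty_or_nonempty with hB | ⟨χ, hχ⟩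
    · have : f = 0 := by simpa [V, hB] using hf
      rw [this]
      rfl
    let C : I := ⟨ConjClasses.mk (g : G ⧸ N), _, rfl,
      fun h => hg (h.trans (orderOf_map_dvd (QuotientGroup.mk' N) g))⟩
    obtain ⟨y, hy⟩ := isConj_iff.1 (ConjClasses.mk_eq_mk_iff_isConj.1 (hx C).symm)
    obtain ⟨t, rfl⟩ := QuotientGroup.mk'_surjective N y
    have hn : t * g * t⁻¹ * (x C)⁻¹ ∈ N := by
      rw [← QuotientGroup.eq_one_iff, QuotientGroup.mk_mul, QuotientGroup.mk_inv, mul_inv_eq_one]
      exact hy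
    have h1 := key.2.2 C ⟨_, hn⟩ χ hχ
    have h2 : f (k C * x C) = 0 := congrFun h0 C
    rw [h2, mul_zero] at h1
    rw [← key.1 g t]
    simpa [inv_mul_cancel_right] using h1
  show Module.finrank ℂ V ≤ _
  refine (LinearMap.finrank_le_finrank_of_injective hinj).trans ?_
  rw [Module.finrank_pi, Nat.card_eq_fintype_card]

end Cfsg.Agent.RankClasses
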