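import Cfsg.Agent.Lib.Blocks.Dihedral.Exceptional

/-!
# Blocks of rank three with dihedral defect group

All reflections of the defect group are conjugate to the central involution; hence the centre of the
group has odd order and the group is not solvable.
-/

set_option autoImplicit false
set_option linter.unusedSectionVars false

namespace Cfsg.Agent.DihedralDefect

open Cfsg Cfsg.Agent.Blocks Cfsg.Agent.BrauerPairs

variable {G : Type*} [Group G] [Finite G] [Fact (Nat.Prime 2)] {M : Ideal AlgInt}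
  {B : Set (IrrCharacter G)} {P : Subgroup G}
  {e : Set (IrrCharacter (Subgroup.centralizer (P : Set G)))} {a : ℕ} {σ : G}

/-- In a block of rank three the reflections are conjugate to `mid`. -/
theorem refl_conj_mid (hM : IsPModular 2 M) (hmax : IsMaximalBrauerPair 2 M B P e) (D : Rot P a σ)
    (hl : blockRank 2 B = 3) {u : G} (hu : u ∈ P) (huR : u ∉ Subgroup.zpowers σ) :
    IsConj (mid a σ) u := by
  by_contra hn
  have h := rot_subsections_refl hM hmax D hu huR hn
  rcases count_or_five hM hmax D with ⟨hk, -⟩ | ⟨rfl, h5⟩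
  · omega
  · exact false_of_five hM hmax D h5

theorem odd_center_of_rot (hM : IsPModular 2 M) (hmax : IsMaximalBrauerPair 2 M B P e) (D : Rot P a σ)
    (hl : blockRank 2 B = 3) : Odd (Nat.card (Subgroup.center G)) := by
  rw [← Nat.not_even_iff_odd]
  intro heven
  obtain ⟨z, hz⟩ := exists_prime_orderOf_dvd_card' (G := Subgroup.center G) 2 (even_iff_two_dvd.1 heven)
  have hzc := Subgroup.mem_center_iff.1 z.2
  rw [← Subgroup.orderOf_coe] at hz
  set y : G := (z : G)
  have : (Subgroup.zpowers y).Normal := ⟨fun n hn g => by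
    obtain ⟨i, rfl⟩ := Subgroup.mem_zpowers_iff.1 hn
    rw [← conj_zpow, hzc g, mul_inv_cancel_right]
    exact Subgroup.zpow_mem _ (Subgroup.mem_zpowers y) i⟩
  have hyP : y ∈ P := Blocks.normal_le_defectGroup hM
    (IsPGroup.of_card (by rw [Nat.card_zpowers, hz, pow_one])) hmax.1.2.1
    (maximal_isDefectGroup hM hmax) (Subgroup.mem_zpowers y)
  have hy2 : y * y = 1 := by rw [← pow_two, ← hz, pow_orderOf_eq_one]
  have hσ : σ * σ ≠ 1 := fun h => by
    have := D.pow_ne_one (i := 2) (by norm_num)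
      (lt_of_lt_of_le (by norm_num : 2 < 2 ^ 2) (Nat.pow_le_pow_right (by norm_num) (by omega)))
    exact this (by rwa [pow_two])
  have hyR : y ∈ Subgroup.zpowers σ := by
    by_contra hn
    have h := D.inv y hyP hn
    rw [← hzc σ, mul_inv_cancel_right] at h
    exact hσ (mul_eq_one_iff_eq_inv.2 h)
  have hym : y = mid a σ := (D.eq_one_or_mid hyR hy2).resolve_left fun h => by
    rw [h, orderOf_one] at hz
    omega
  obtain ⟨u, hu, huR⟩ := D.exists_refl
  obtain ⟨g, hg⟩ := isConj_iff.1 (refl_conj_mid hM hmax D hl hu huR)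
  rw [← hym, hzc g, mul_inv_cancel_right] at hg
  exact huR (hg ▸ hyR)

theorem not_isSolvable_of_rot (hM : IsPModular 2 M) (hmax : IsMaximalBrauerPair 2 M B P e) (D : Rot P a σ)
    (hl : blockRank 2 B = 3) : ¬ Group.IsSolvable G := by
  classical
  intro hsol
  have hσ : σ * σ ≠ 1 := fun h => by
    have := D.pow_ne_one (i := 2) (by norm_num)
      (lt_of_lt_of_le (by norm_num : 2 < 2 ^ 2) (Nat.pow_le_pow_right (by norm_num) (by omega)))
    exact this (by rwa [pow_two])
  obtain ⟨n, hn⟩ := hsol.solvable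
  have hex : ∃ j, P ⊓ derivedSeries G j = ⊥ := ⟨n, by rw [hn, inf_bot_eq]⟩
  have hj0 : Nat.find hex ≠ 0 := fun h => by
    have h1 := Nat.find_spec hex
    rw [h, derivedSeries_zero, inf_top_eq] at h1
    have := D.mem
    rw [h1, Subgroup.mem_bot] at this
    exact hσ (by rw [this, one_mul])
  obtain ⟨j, hj⟩ := Nat.exists_eq_succ_of_ne_zero hj0
  have hA : P ⊓ derivedSeries G j ≠ ⊥ := Nat.find_min hex (by omega)
  have hA' : P ⊓ derivedSeries G (j + 1) = ⊥ := by rw [← Nat.succ_eq_add_one, ← hj]; exact Nat.find_spec hex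
  set K := derivedSeries G j with hK
  have hKn : K.Normal := derivedSeries_normal G j
  have hcomm : ∀ x ∈ P ⊓ K, ∀ y ∈ P ⊓ K, x * y = y * x := by
    intro x hx y hy
    have h : x * y * x⁻¹ * y⁻¹ ∈ P ⊓ derivedSeries G (j + 1) :=
      Subgroup.mem_inf.2 ⟨P.mul_mem (P.mul_mem (P.mul_mem hx.1 hy.1) (P.inv_mem hx.1)) (P.inv_mem hy.1), by
        rw [derivedSeries_succ]; exact Subgroup.commutator_mem_commutator hx.2 hy.2⟩
    rw [hA', Subgroup.mem_bot, mul_inv_eq_one, mul_inv_eq_iff_eq_mul] at h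
    exact h
  have hmid : mid a σ ∈ K := by
    obtain ⟨⟨r, hr⟩, hr1⟩ := Subgroup.ne_bot_iff_exists_ne_one.1 hA
    obtain ⟨hrP, hrK⟩ := Subgroup.mem_inf.1 hr
    have hr1' : r ≠ 1 := fun h => hr1 (Subtype.ext h)
    by_cases hrR : r ∈ Subgroup.zpowers σ
    · exact Subgroup.zpowers_le.2 hrK (D.mid_mem_zpowers hrR hr1')
    · have h2 : σ * σ ∈ K := by
        have h1 := K.mul_mem (hKn.conj_mem _ hrK σ) (K.inv_mem hrK)
        have h3 : σ * r * σ⁻¹ * r⁻¹ = σ * σ := by
          rw [mul_assoc, mul_assoc, show r * (σ⁻¹ * r⁻¹) = (r * σ * r⁻¹)⁻¹ by group, D.inv r hrP hrR, inv_inv]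
        rwa [h3] at h1
      exact Subgroup.zpowers_le.2 h2
        (D.mid_mem_zpowers (mul_mem (Subgroup.mem_zpowers σ) (Subgroup.mem_zpowers σ)) hσ)
  have hrefl : ∀ u ∈ P, u ∉ Subgroup.zpowers σ → u ∈ P ⊓ K := fun u hu huR => by
    obtain ⟨g, hg⟩ := isConj_iff.1 (refl_conj_mid hM hmax D hl hu huR)
    exact ⟨hu, hg ▸ hKn.conj_mem _ hmid g⟩
  obtain ⟨u, hu, huR⟩ := D.exists_refl
  have hσu : σ * u ∉ Subgroup.zpowers σ := fun h =>
    huR ((Subgroup.mul_mem_cancel_left _ (Subgroup.mem_zpowers σ)).1 h)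
  have h := hcomm _ (hrefl u hu huR) _ (hrefl _ (mul_mem D.mem hu) hσu)
  have hu2 := D.sq u hu huR
  have hinv := D.inv u hu huR
  rw [inv_eq_of_mul_eq_one_right hu2, mul_assoc u σ u] at hinv
  rw [hinv, mul_assoc σ u u, hu2, mul_one] at h
  exact hσ (mul_eq_one_iff_eq_inv.2 h.symm)

end Cfsg.Agent.DihedralDefect
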