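import Cfsg.Agent.Lib.Blocks.Dihedral.RankThree
import Cfsg.Agent.Lib.SmallSection.Dominate
import Cfsg.Agent.Lib.BlocksNormal.QuotientDefect
import Cfsg.Agent.Lib.QDWreath.Semidihedral

/-!
# The centre for a block of rank three with semidihedral defect group

`odd_center_of_semidihedral`: the dominated block over a central involution would have dihedral defect
group and rank three, but then an involution would lift to an element of order four.
-/

set_option autoImplicit false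
set_option linter.unusedSectionVars false
set_option maxHeartbeats 1000000

namespace Cfsg.Agent.DihedralDefect

open Cfsg Cfsg.Agent.Blocks Cfsg.Agent.BrauerPairs

variable {G : Type*} [Group G] [Finite G] [Fact (Nat.Prime 2)] {M : Ideal AlgInt}

theorem odd_center_of_semidihedral (hM : IsPModular 2 M) {B : Set (IrrCharacter G)} (hB : IsPBlock M B)
    {D : Subgroup G} (hD : IsDefectGroup 2 M B D) (hqd : IsQuasiDihedral D) (hl : blockRank 2 B = 3) :
    Odd (Nat.card (Subgroup.center G)) := by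
  classical
  rw [← Nat.not_even_iff_odd]
  intro heven
  obtain ⟨z, hz⟩ := exists_prime_orderOf_dvd_card' (G := Subgroup.center G) 2 (even_iff_two_dvd.1 heven)
  have hzc := Subgroup.mem_center_iff.1 z.2
  rw [← Subgroup.orderOf_coe] at hz
  set y : G := (z : G)
  set N := Subgroup.zpowers y with hNdef
  have hNc : N ≤ Subgroup.center G := Subgroup.zpowers_le.2 z.2
  haveI : N.Normal := ⟨fun n hn g => by
    rw [Subgroup.mem_center_iff.1 (hNc hn) g, mul_inv_cancel_right]
    exact hn⟩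
  have hN2 : IsPGroup 2 N := IsPGroup.of_card (n := 1) (by rw [Nat.card_zpowers, hz, pow_one])
  have hNsq : ∀ t ∈ N, t * t = 1 := by
    intro t ht
    obtain ⟨i, rfl⟩ := Subgroup.mem_zpowers_iff.1 ht
    rw [← (Commute.refl y).mul_zpow, ← pow_two, ← hz, pow_orderOf_eq_one, one_zpow]
  have hND : N ≤ D := Blocks.normal_le_defectGroup hM hN2 hB hD
  obtain ⟨n, ⟨d⟩⟩ := QDWreath.nonempty_qdData hqd
  have hn := d.hn
  obtain ⟨a, rfl⟩ : ∃ a, n = a + 3 := ⟨n - 3, by omega⟩
  -- the involution is the power of `x`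
  let s : D := ⟨y, hND (Subgroup.mem_zpowers y)⟩
  have hys : y = ((d.x ^ 2 ^ (a + 2) : D) : G) := by
    have ho : orderOf s = 2 := by rw [← Subgroup.orderOf_coe]; exact hz
    have hhalf : d.a (QDWreath.tp (a + 3) (a + 3 - 1)) = d.x ^ 2 ^ (a + 2) := by
      rw [← d.a_natCast]
      rfl
    rcases d.orderOf_eq_two_cases ho with h | ⟨k, h⟩
    · rw [← hhalf, ← h]
    · refine absurd ?_ d.rexp_ne_one
      have h1 := d.conj_b_a (2 * k) 1
      rw [← h, mul_one] at h1
      have h2 : s * d.a 1 * s⁻¹ = d.a 1 := Subtype.ext (by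
        show y * ((d.a 1 : D) : G) * y⁻¹ = _
        rw [← hzc, mul_inv_cancel_right])
      exact (d.a_injective (h2.symm.trans h1)).symm
  set π := QuotientGroup.mk' N
  have hπy : π y = 1 := (QuotientGroup.eq_one_iff y).2 (Subgroup.mem_zpowers y)
  set σ : G ⧸ N := π ((d.x : D) : G) with hσ
  have hxord : orderOf ((d.x : D) : G) = 2 ^ (a + 3) := by rw [Subgroup.orderOf_coe, d.order_x]
  have hσord : orderOf σ = 2 ^ (a + 2) := by
    refine orderOf_eq_prime_pow (fun h => ?_) ?_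
    · rw [hσ, ← map_pow, QuotientGroup.mk'_apply, QuotientGroup.eq_one_iff] at h
      have h1 := hNsq _ h
      rw [← pow_add, ← two_mul, ← pow_succ', ← orderOf_dvd_iff_pow_eq_one, hxord,
        Nat.pow_dvd_pow_iff_le_right (by norm_num)] at h1
      omega
    · rw [hσ, ← map_pow, ← Subgroup.coe_pow, ← hys, hπy]
  have hcard : Nat.card (D.map π) = 2 ^ (a + 3) := by
    have h1 := (π.comp D.subtype).ker.card_mul_index
    rw [Subgroup.index_ker, MonoidHom.range_comp, Subgroup.range_subtype, d.card,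
      show (π.comp D.subtype).ker = N.subgroupOf D by
        ext v
        rw [MonoidHom.mem_ker, Subgroup.mem_subgroupOf]
        exact QuotientGroup.eq_one_iff _,
      Nat.card_congr (Subgroup.subgroupOfEquivOfLe hND).toEquiv, Nat.card_zpowers, hz, pow_succ'] at h1
    exact Nat.eq_of_mul_eq_mul_left (by norm_num) h1
  have hlift : ∀ v ∈ D.map π, v ∉ Subgroup.zpowers σ →
      ∃ i, v = π ((d.b i : D) : G) := by
    rintro _ ⟨u, hu, rfl⟩ hv
    rcases d.cases ⟨u, hu⟩ with ⟨i, hi⟩ | ⟨i, hi⟩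
    · refine absurd ?_ hv
      rw [show u = ((d.a i : D) : G) from congrArg Subtype.val hi, QDWreath.QDData.a, Subgroup.coe_pow, map_pow]
      exact Subgroup.npow_mem_zpowers _ _
    · exact ⟨i, by rw [← hi]⟩
  have hhalf : d.a (QDWreath.tp (a + 3) (a + 3 - 1)) = d.x ^ 2 ^ (a + 2) := by
    rw [← d.a_natCast]
    rfl
  have hπh : π ((d.a (QDWreath.tp (a + 3) (a + 3 - 1)) : D) : G) = 1 := by rw [hhalf, ← hys, hπy]
  have hbsq : ∀ i, π ((d.b i : D) : G) * π ((d.b i : D) : G) = 1 := by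
    intro i
    rw [← map_mul, ← Subgroup.coe_mul]
    obtain ⟨k, rfl | rfl⟩ := QDWreath.even_or_odd i
    · rw [d.b_even_sq, Subgroup.coe_one, map_one]
    · rw [d.b_odd_sq]
      exact hπh
  have R : Rot (D.map π) a σ := by
    refine ⟨Subgroup.mem_map.2 ⟨_, d.x.2, rfl⟩, hσord, hcard, fun v hv hvR => ?_, fun v hv hvR => ?_⟩
    · obtain ⟨i, rfl⟩ := hlift v hv hvR
      exact hbsq i
    · obtain ⟨i, rfl⟩ := hlift v hv hvR
      rw [hσ, ← map_inv, ← map_mul, ← map_mul, ← Subgroup.coe_inv, ← Subgroup.coe_mul, ← Subgroup.coe_mul,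
        ← map_inv, ← Subgroup.coe_inv, ← d.a_one', d.conj_b_a, mul_one, d.a_inv, QDWreath.QDData.rexp,
        sub_eq_add_neg, ← d.a_mul_a, Subgroup.coe_mul, map_mul, hπh, one_mul]
  -- the dominated block
  obtain ⟨Bbar, hBbar, hsub, hdef⟩ := QuotientDefect.exists_full_block hM N hN2 hB
  have hQ := SmallSection.isPBlock_quotBlock hM hN2 hNc hB
  obtain ⟨χ, hχ⟩ := isPBlock_nonempty hM hBbar
  obtain rfl : Bbar = SmallSection.quotBlock N B :=
    isPBlock_eq_of_mem hM hBbar hQ hχ (hsub χ hχ (Codegree.inflate N χ) rfl)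
  obtain ⟨e, hmax⟩ := Star.exists_maximal_of_defectGroup hM hBbar ((hdef _).2 ⟨D, hD, rfl⟩)
  have hl' : blockRank 2 (SmallSection.quotBlock N B) = 3 := by
    rw [← SmallSection.blockRank_quotBlock hM hN2 hNc hB, hl]
  -- the reflection of order two would be conjugate to an element of order four
  have hu : π ((d.b 0 : D) : G) ∉ Subgroup.zpowers σ := by
    intro h
    obtain ⟨i, hi⟩ := Subgroup.mem_zpowers_iff.1 h
    rw [hσ, ← map_zpow, QuotientGroup.mk'_apply, QuotientGroup.mk'_apply, QuotientGroup.eq] at hi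
    obtain ⟨j, hj⟩ := Subgroup.mem_zpowers_iff.1 hi
    have h2 : d.b 0 ∈ Subgroup.zpowers d.x := by
      refine Subgroup.mem_zpowers_iff.2 ⟨i + (2 ^ (a + 2) : ℕ) * j, Subtype.ext ?_⟩
      rw [zpow_add, zpow_mul, zpow_natCast, Subgroup.coe_mul, Subgroup.coe_zpow, Subgroup.coe_zpow, ← hys,
        hj, mul_inv_cancel_left]
    obtain ⟨k, hk⟩ := (Submonoid.mem_powers_iff _ _).1 (mem_powers_iff_mem_zpowers.2 h2)
    exact d.a_ne_b (k : ZMod (2 ^ (a + 3))) 0 ((d.a_natCast k).trans hk)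
  obtain ⟨g, hg⟩ := isConj_iff.1 (refl_conj_mid hM hmax R hl'
    (Subgroup.mem_map.2 ⟨_, (d.b 0).2, rfl⟩) hu)
  obtain ⟨g, rfl⟩ := QuotientGroup.mk'_surjective N g
  set w := ((d.x : D) : G) ^ 2 ^ (a + 1) with hw
  rw [mid, hσ, ← map_pow, ← map_inv, ← map_mul, ← map_mul, QuotientGroup.mk'_apply, QuotientGroup.mk'_apply,
    QuotientGroup.eq, ← hw] at hg
  set t := (g * w * g⁻¹)⁻¹ * ((d.b 0 : D) : G) with ht
  have hb : ((d.b 0 : D) : G) * (d.b 0 : D) = 1 := by
    rw [← Subgroup.coe_mul, show (0 : ZMod (2 ^ (a + 3))) = 2 * 0 by rw [mul_zero], d.b_even_sq, Subgroup.coe_one]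
  have hgw : g * w * g⁻¹ = ((d.b 0 : D) : G) * t⁻¹ := by rw [ht]; group
  have h3 : g * w * g⁻¹ * (g * w * g⁻¹) = 1 := by
    rw [hgw, mul_assoc, ← mul_assoc t⁻¹, ← Subgroup.mem_center_iff.1 (hNc (inv_mem hg)) _, mul_assoc _ t⁻¹,
      hNsq _ (inv_mem hg), mul_one, hb]
  rw [show g * w * g⁻¹ * (g * w * g⁻¹) = g * (w * w) * g⁻¹ by group, conj_eq_one_iff, hw, ← pow_add,
    ← two_mul, ← pow_succ', ← Subgroup.coe_pow, ← hys] at h3
  rw [h3, orderOf_one] at hz
  omega

end Cfsg.Agent.DihedralDefect
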