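import Cfsg.Agent.Lib.Blocks.Dihedral.RankClasses
import Cfsg.Agent.Lib.KMinusL.Basic
import Cfsg.Agent.Lib.ClassIndex.PSolvable
import Cfsg.Agent.Lib.QDWreath.LocalIndex
import Cfsg.Agent.S3116
import Cfsg.Agent.S5112
import Cfsg.Agent.S1192
import Cfsg.Agent.S1194

/-!
# Blocks of solvable groups with semidihedral defect group have rank at most two

* `classes_le_two`: a group with semidihedral Sylow 2-subgroup and self-centralising 2-core has at
  most two classes of elements of odd order;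
* `blockRank_le_two`: the bound on the rank, by reduction to an invariant character of the odd core.
-/

set_option autoImplicit false
set_option linter.unusedSectionVars false
set_option maxHeartbeats 1000000
set_option synthInstance.maxHeartbeats 200000

namespace Cfsg.Agent.SemiSolvable

open Cfsg Cfsg.Agent.Blocks Cfsg.Agent.BrauerPairs

universe u

theorem isQuasiDihedral_congr {X Y : Type*} [Group X] [Group Y] (e : X ≃* Y) (h : IsQuasiDihedral X) :
    IsQuasiDihedral Y := by
  obtain ⟨n, hn, hc, x, y, hx, hy, hr⟩ := h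
  exact ⟨n, hn, by rw [← Nat.card_congr e.toEquiv, hc], e x, e y, by rw [MulEquiv.orderOf_eq, hx],
    by rw [MulEquiv.orderOf_eq, hy], by rw [← map_inv, ← map_mul, ← map_mul, hr, map_pow]⟩

section Classes

variable {H : Type*} [Group H] [Finite H]

theorem eq_one_of_regular_of_aut (hcore : Subgroup.centralizer (pCore 2 H : Set H) ≤ pCore 2 H)
    (haut : IsPGroup 2 (MulAut (pCore 2 H))) {x : H} (hx : ¬ 2 ∣ orderOf x) : x = 1 := by
  haveI : Fact (Nat.Prime 2) := ⟨Nat.prime_two⟩
  haveI := Cores.pCore_normal 2 H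
  obtain ⟨k, hk⟩ := haut (MulAut.conjNormal x)
  have hxc : x ∈ Subgroup.centralizer (pCore 2 H : Set H) := by
    have hd : orderOf (MulAut.conjNormal x : MulAut (pCore 2 H)) ∣ orderOf x :=
      orderOf_map_dvd (MulAut.conjNormal (H := pCore 2 H)) x
    have h1 : orderOf (MulAut.conjNormal x : MulAut (pCore 2 H)) = 1 := Nat.eq_one_of_dvd_coprimes
      ((Nat.prime_two.coprime_iff_not_dvd.2 hx).pow_left k) (orderOf_dvd_of_pow_eq_one hk) hd
    rw [orderOf_eq_one_iff] at h1
    refine Subgroup.mem_centralizer_iff.2 fun q hq => ?_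
    have h2 := congrArg (fun f : MulAut (pCore 2 H) => ((f ⟨q, hq⟩ : pCore 2 H) : H)) h1
    simp only [MulAut.conjNormal_apply, MulAut.one_apply] at h2
    exact (mul_inv_eq_iff_eq_mul.1 h2).symm
  obtain ⟨j, hj⟩ := IsPGroup.iff_orderOf.1 (Cores.isPGroup_pCore 2 H) ⟨x, hcore hxc⟩
  rw [← Subgroup.orderOf_coe] at hj
  rcases Nat.eq_zero_or_pos j with rfl | hj0
  · exact orderOf_eq_one_iff.1 (hj.trans (pow_zero 2))
  · exact absurd (by rw [hj]; exact dvd_pow_self 2 hj0.ne') hx

theorem ker_le_pCore {W : Type*} [Group W] {N : Subgroup H} (hN : N = ⊤) (f : N →* W)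
    (hker : IsPGroup 2 f.ker) : f.ker.map N.subtype ≤ pCore 2 H := by
  refine Cores.le_pCore ⟨fun a ha g => ?_⟩ (hker.map _)
  obtain ⟨b, hb, rfl⟩ := Subgroup.mem_map.1 ha
  have hg : g ∈ N := by rw [hN]; trivial
  exact Subgroup.mem_map.2 ⟨⟨g, hg⟩ * b * ⟨g, hg⟩⁻¹, (MonoidHom.normal_ker f).conj_mem b hb ⟨g, hg⟩, by simp⟩

theorem card_dvd_of_hom {W : Type*} [Group W] [Finite W] {N : Subgroup H} (hN : N = ⊤) (f : N →* W)
    (hker : IsPGroup 2 f.ker) : Nat.card H ∣ Nat.card (pCore 2 H) * Nat.card W := by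
  have h1 := Subgroup.card_dvd_of_le (ker_le_pCore hN f hker)
  rw [Subgroup.card_map_of_injective Subtype.coe_injective] at h1
  rw [← Subgroup.card_top (G := H), ← hN, ← f.ker.card_mul_index, Subgroup.index_ker]
  exact mul_dvd_mul h1 (Subgroup.card_subgroup_dvd_card f.range)

theorem classes_le_two (S : Sylow 2 H) (hS : IsQuasiDihedral (S : Subgroup H))
    (hcore : Subgroup.centralizer (pCore 2 H : Set H) ≤ pCore 2 H) :
    Nat.card {C : ConjClasses H // ∃ q, ConjClasses.mk q = C ∧ ¬ 2 ∣ orderOf q} ≤ 2 := by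
  classical
  haveI : Fact (Nat.Prime 2) := ⟨Nat.prime_two⟩
  haveI := Cores.pCore_normal 2 H
  suffices h : ∀ x y : H, ¬ 2 ∣ orderOf x → ¬ 2 ∣ orderOf y → x ≠ 1 → y ≠ 1 → IsConj x y by
    refine le_trans (Nat.card_le_card_of_injective (fun C => decide (C.1 = ConjClasses.mk 1)) ?_)
      (by simp)
    rintro ⟨C, q, rfl, hq⟩ ⟨C', q', rfl, hq'⟩ he
    simp only [decide_eq_decide] at he
    refine Subtype.ext ?_
    by_cases h1 : ConjClasses.mk q = ConjClasses.mk 1
    · exact h1.trans (he.1 h1).symm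
    · exact ConjClasses.mk_eq_mk_iff_isConj.2 (h q q' hq hq' (fun e => h1 (e ▸ rfl))
        fun e => h1 (he.2 (e ▸ rfl)))
  have hQ2 : IsPGroup 2 (pCore 2 H) := Cores.isPGroup_pCore 2 H
  have hQS : pCore 2 H ≤ (S : Subgroup H) := hQ2.le_sylow_of_normal S
  set Q' := (pCore 2 H).subgroupOf (S : Subgroup H) with hQ'
  let eQ : Q' ≃* pCore 2 H := Subgroup.subgroupOfEquivOfLe hQS
  haveI : Q'.Normal := Subgroup.Normal.subgroupOf (Cores.pCore_normal 2 H) _
  obtain ⟨n, hn, hc, -⟩ := id hS
  have main : IsPGroup 2 (MulAut (pCore 2 H)) ∨ (n = 3 ∧ Nonempty (pCore 2 H ≃* QuaternionGroup 2)) := by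
    have tr : IsPGroup 2 (MulAut Q') → IsPGroup 2 (MulAut (pCore 2 H)) :=
      fun h => h.of_equiv (MulAut.congr eQ)
    by_cases htop : Q' = ⊤
    · refine Or.inl (tr (IsPGroup.of_equiv (S3116.result S.2 (Or.inr hS)) ?_))
      exact MulAut.congr ((Subgroup.topEquiv.symm).trans (MulEquiv.subgroupCongr htop.symm))
    have hcyc : IsCyclic Q' → IsPGroup 2 (MulAut Q') := fun hC => by
      obtain ⟨j, hj⟩ := IsPGroup.iff_card.1 (S.2.to_subgroup Q')
      have hcard : Nat.card (MulAut Q') = Nat.totient (Nat.card Q') := IsCyclic.card_mulAut Q'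
      rcases Nat.eq_zero_or_pos j with rfl | hj0
      · exact IsPGroup.of_card (n := 0) (by rw [hcard, hj]; rfl)
      · exact IsPGroup.of_card (n := j - 1) (by rw [hcard, hj, Nat.totient_prime_pow Nat.prime_two hj0]; simp)
    rcases S1194.result hS Q' htop with hco | ⟨hC, -⟩
    · obtain ⟨M₁, M₂, M₃, -, -, -, -, -, -, hall, h1, h2, h3⟩ := S1192.result hS n hc
      rcases hall Q' hco with e | e | e
      · exact Or.inl (tr (hcyc (e ▸ h1)))
      · subst e
        obtain ⟨φ⟩ := h2
        rcases Nat.lt_or_ge n 4 with hn4 | hn4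
        · obtain rfl : n = 3 := by omega
          exact Or.inr ⟨rfl, ⟨eQ.symm.trans φ⟩⟩
        · exact Or.inl (tr (IsPGroup.of_equiv (S5112.aut_quaternion (n - 2) (by omega)) (MulAut.congr φ.symm)))
      · subst e
        obtain ⟨φ⟩ := h3
        refine Or.inl (tr (S3116.result (S.2.to_subgroup Q') (Or.inl ⟨2 ^ (n - 1), ?_, ⟨φ⟩⟩)))
        calc 4 = 2 ^ 2 := by norm_num
          _ ≤ 2 ^ (n - 1) := Nat.pow_le_pow_right (by norm_num) (by omega)
    · exact Or.inl (tr (hcyc hC))
  intro x y hx hy hx1 hy1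
  rcases main with haut | ⟨rfl, ⟨φ⟩⟩
  · exact absurd (eq_one_of_regular_of_aut hcore haut hx) hx1
  -- the quaternion case: order 48
  let Q := pCore 2 H
  have hnorm : Subgroup.normalizer (Q : Set H) = ⊤ := Subgroup.normalizer_eq_top _
  let f := (QDWreath.autCenterQuot Q).comp Q.normalizerMonoidHom
  have hker : IsPGroup 2 f.ker := by
    intro g
    obtain ⟨a, m, hm, hgm⟩ : ∃ a m, ¬ 2 ∣ m ∧ orderOf (g.1 : H) = 2 ^ a * m :=
      ⟨_, _, Nat.not_dvd_ordCompl Nat.prime_two (orderOf_pos _).ne', (Nat.ordProj_mul_ordCompl_eq_self _ 2).symm⟩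
    set w := (g.1) ^ 2 ^ a with hw
    have hwo : ¬ 2 ∣ orderOf (w : H) := by
      rw [hw, Subgroup.coe_pow, orderOf_pow, hgm, Nat.gcd_mul_right_left, Nat.mul_div_cancel_left _ (by positivity)]
      exact hm
    have hwk : f w = 1 := by rw [hw, map_pow, show f g.1 = 1 from g.2, one_pow]
    have hwc := QDWreath.q8_centralizes φ (g := w) hwk (by
      rwa [← Nat.not_even_iff_odd, even_iff_two_dvd])
    obtain ⟨j, hj⟩ := IsPGroup.iff_orderOf.1 hQ2 ⟨_, hcore hwc⟩
    rw [← Subgroup.orderOf_coe] at hj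
    have hw1 : (w : H) = 1 := by
      rcases Nat.eq_zero_or_pos j with rfl | hj0
      · exact orderOf_eq_one_iff.1 (hj.trans (pow_zero 2))
      · exact absurd (by rw [hj]; exact dvd_pow_self 2 hj0.ne') hwo
    exact ⟨a, Subtype.ext (Subtype.ext (by rw [Subgroup.coe_pow]; exact hw1))⟩
  have hcH : Nat.card H ∣ 48 := by
    refine (card_dvd_of_hom hnorm f hker).trans ?_
    rw [QDWreath.q8_card φ]
    exact mul_dvd_mul_left 8 (QDWreath.card_mulAut_dvd_six (QDWreath.q8_card_quot φ))
  have hord : ∀ z : H, ¬ 2 ∣ orderOf z → z ≠ 1 → orderOf z = 3 := by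
    intro z hz hz1
    have h := (Nat.Coprime.pow_right 4 (Nat.prime_two.coprime_iff_not_dvd.2 hz).symm).dvd_of_dvd_mul_left
      (show orderOf z ∣ 2 ^ 4 * 3 from (orderOf_dvd_natCard z).trans hcH)
    exact ((Nat.dvd_prime Nat.prime_three).1 h).resolve_left fun e => hz1 (orderOf_eq_one_iff.1 e)
  haveI : Fact (Nat.Prime 3) := ⟨Nat.prime_three⟩
  have hx3 := hord x hx hx1
  have hsyl : ∀ z : H, orderOf z = 3 → ∃ P : Sylow 3 H, (P : Subgroup H) = Subgroup.zpowers z := by
    intro z hz
    refine ⟨(IsPGroup.of_card (G := Subgroup.zpowers z) (n := 1) (by rw [Nat.card_zpowers, hz, pow_one])).toSylow ?_, rfl⟩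
    intro h
    have h2 : 3 * 3 ∣ 48 := by
      have := Subgroup.card_mul_index (Subgroup.zpowers z)
      rw [Nat.card_zpowers, hz] at this
      exact (mul_dvd_mul_left 3 h).trans (this ▸ hcH)
    norm_num at h2
  obtain ⟨P, hP⟩ := hsyl x hx3
  obtain ⟨g, hg⟩ : ∃ g : H, g * x * g⁻¹ = x⁻¹ := by
    by_contra! hno
    have hnc : Subgroup.normalizer ((P : Subgroup H) : Set H) ≤
        Subgroup.centralizer ((P : Subgroup H) : Set H) := by
      intro g hg
      rw [hP] at hg ⊢
      refine SecondMain.mem_centralizer_zpowers_iff.2 ?_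
      have h1 := (Subgroup.mem_normalizer_iff.1 hg x).1 (Subgroup.mem_zpowers x)
      obtain ⟨i, hi⟩ := (Submonoid.mem_powers_iff _ _).1 (mem_powers_iff_mem_zpowers.2 h1)
      rw [← pow_mod_orderOf, hx3] at hi
      rcases (by omega : i % 3 = 0 ∨ i % 3 = 1 ∨ i % 3 = 2) with e | e | e <;> rw [e] at hi
      · rw [pow_zero] at hi
        exact absurd (conj_eq_one_iff.1 hi.symm) hx1
      · rw [pow_one] at hi
        exact (mul_inv_eq_iff_eq_mul.1 hi.symm).symm
      · refine absurd (hi.symm.trans ?_) (hno g)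
        rw [eq_inv_iff_mul_eq_one, ← pow_succ]
        show x ^ 3 = 1
        rw [← hx3, pow_orderOf_eq_one]
    have hcompl := MonoidHom.ker_transferSylow_isComplement' P hnc
    set K := (MonoidHom.transferSylow P hnc).ker
    have h3 : Nat.card K * 3 = Nat.card H := by
      rw [← hcompl.card_mul, hP, Nat.card_zpowers, hx3]
    have hK2 : IsPGroup 2 K := by
      obtain ⟨j, -, hj⟩ := (Nat.dvd_prime_pow Nat.prime_two).1
        (show Nat.card K ∣ 2 ^ 4 from Nat.dvd_of_mul_dvd_mul_right (by norm_num) (h3 ▸ hcH))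
      exact IsPGroup.of_card hj
    have h5 := Subgroup.card_le_of_le (show K ≤ Q from Cores.le_pCore inferInstance hK2)
    rw [QDWreath.q8_card φ] at h5
    have h6 := Subgroup.card_subgroup_dvd_card (S : Subgroup H)
    rw [hc] at h6
    have h7 := Nat.le_of_dvd (by norm_num) hcH
    obtain ⟨r, hr⟩ := h6
    rw [← h3] at hr
    norm_num at hr
    have := Nat.card_pos (α := K)
    omega
  obtain ⟨P', hP'⟩ := hsyl y (hord y hy hy1)
  obtain ⟨t, ht⟩ := MulAction.exists_smul_eq H P' P
  have h1 : t * y * t⁻¹ ∈ Subgroup.zpowers x := by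
    rw [← hP, ← ht, Sylow.coe_subgroup_smul, Subgroup.pointwise_smul_def]
    exact ⟨y, by rw [hP']; exact Subgroup.mem_zpowers y, rfl⟩
  obtain ⟨i, hi⟩ := (Submonoid.mem_powers_iff _ _).1 (mem_powers_iff_mem_zpowers.2 h1)
  rw [← pow_mod_orderOf, hx3] at hi
  have hyc : IsConj y (t * y * t⁻¹) := isConj_iff.2 ⟨t, rfl⟩
  rcases (by omega : i % 3 = 0 ∨ i % 3 = 1 ∨ i % 3 = 2) with e | e | e <;> rw [e] at hi
  · rw [pow_zero] at hi
    exact absurd (conj_eq_one_iff.1 hi.symm) hy1
  · rw [pow_one] at hi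
    exact (hi ▸ hyc).symm
  · refine IsConj.trans (isConj_iff.2 ⟨g, hg.trans ?_⟩) (hi ▸ hyc).symm
    rw [inv_eq_iff_mul_eq_one, ← pow_succ']
    show x ^ 3 = 1
    rw [← hx3, pow_orderOf_eq_one]

end Classes

/-- The rank of a block of a solvable group with semidihedral defect group. -/
theorem blockRank_le_two {M : Ideal AlgInt} (hM : IsPModular 2 M) : ∀ (n : ℕ) {G : Type u} [Group G]
    [Finite G] {B : Set (IrrCharacter G)} {D : Subgroup G}, Nat.card G = n → Group.IsSolvable G →
    IsPBlock M B → IsDefectGroup 2 M B D → IsQuasiDihedral D → blockRank 2 B ≤ 2 := by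
  haveI : Fact (Nat.Prime 2) := ⟨Nat.prime_two⟩
  intro n
  induction n using Nat.strong_induction_on with
  | _ n ih =>
  intro G _ _ B D hn hsolv hB hD hqd
  classical
  have := Fintype.ofFinite G
  have hps := ClassIndex.isPSolvable_of_isSolvable (p := 2) G hsolv
  have : (pPrimeCore 2 G).Normal := Cores.pPrimeCore_normal 2 G
  have := Fintype.ofFinite (pPrimeCore 2 G)
  obtain ⟨χ, hχ⟩ := isPBlock_nonempty hM hB
  obtain ⟨θ, hθ⟩ := BlocksNormal.exists_constituent (pPrimeCore 2 G) χ
  have hpN : ¬ 2 ∣ Nat.card (pPrimeCore 2 G) := Fong.not_dvd_card_pPrimeCore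
  set T := CharApp.inertia (pPrimeCore 2 G) (θ : pPrimeCore 2 G → ℂ) with hTdef
  by_cases hTtop : T = ⊤
  · -- the invariant case
    have hinv : ∀ g : G, IsConjCharOf (pPrimeCore 2 G) g (θ : pPrimeCore 2 G → ℂ)
        (θ : pPrimeCore 2 G → ℂ) := by
      intro g k k' hkk
      have h := (CharApp.mem_inertia_iff _).1 (show g ∈ T from hTtop ▸ Subgroup.mem_top g) k
      rw [← h]
      exact congrArg _ (Subtype.ext hkk)
    have hsep := Solvable.isPiSeparable_of_isPSolvable hps
    have hcore := Solvable.centralizer_pCore_le (hsep.quotient (pPrimeCore 2 G))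
      (Cores.pPrimeCore_quotient_self (G := G) 2)
    obtain ⟨k, hk'⟩ := Fong.relIndex_pPrimePCore (G := G) (p := 2)
    let Q : Sylow 2 (pPrimePCore 2 G) := default
    have hQS : ¬ 2 ∣ ((Q : Subgroup (pPrimePCore 2 G)).map (pPrimePCore 2 G).subtype).relIndex
        (pPrimePCore 2 G) := by
      rw [Subgroup.relIndex, Subgroup.subgroupOf,
        Subgroup.comap_map_eq_self_of_injective (Subgroup.subtype_injective _)]
      exact Q.not_dvd_index
    have hQL : (Q : Subgroup (pPrimePCore 2 G)).map (pPrimePCore 2 G).subtype ≤ pPrimePCore 2 G :=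
      Subgroup.map_subtype_le _
    have hCQ : Subgroup.centralizer
        (((Q : Subgroup (pPrimePCore 2 G)).map (pPrimePCore 2 G).subtype : Subgroup G) : Set G) ≤
          pPrimePCore 2 G := by
      intro x hx
      refine Subgroup.mem_comap.2 (hcore ?_)
      rw [← HallHigman.map_pPrimePCore, Subgroup.mem_centralizer_iff]
      rintro _ ⟨y, hy, rfl⟩
      have hy' := Fong.le_sup_of_not_dvd HallHigman.pPrimeCore_le_pPrimePCore hk' hQL hQS hy
      obtain ⟨n, hn, q, hq, rfl⟩ := Subgroup.mem_sup_of_normal_left.1 hy'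
      have hn1 : QuotientGroup.mk' (pPrimeCore 2 G) n = 1 := (QuotientGroup.eq_one_iff n).2 hn
      rw [map_mul, hn1, one_mul, ← map_mul, ← map_mul, Subgroup.mem_centralizer_iff.1 hx q hq]
    obtain ⟨hB₀, hsyl, -⟩ := S4642.result 2 M hM _ rfl _ rfl _ hQL (Q.2.map _) hQS hCQ θ hinv
      {χ : IrrCharacter G | classInner (fun k : pPrimeCore 2 G => (χ : G → ℂ) k)
        (θ : pPrimeCore 2 G → ℂ) ≠ 0} fun _ => Iff.rfl
    obtain rfl := isPBlock_eq_of_mem hM hB hB₀ hχ hθ
    obtain ⟨S, hS⟩ := (isPGroup_defectGroup hM hD).exists_le_sylow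
    obtain rfl : D = (S : Subgroup G) := Subgroup.eq_of_le_of_card_ge hS (by
      rw [card_defectGroup hM hB hD, ← card_defectGroup hM hB (hsyl S)])
    refine (RankClasses.blockRank_le_classes hM hpN (fun g m => hinv g m _ rfl)
      (B := {χ : IrrCharacter G | classInner (fun k : pPrimeCore 2 G => (χ : G → ℂ) k)
        (θ : pPrimeCore 2 G → ℂ) ≠ 0}) fun χ hχ => by convert (Set.mem_setOf_eq ▸ hχ) using 4).trans ?_
    refine classes_le_two (S.mapSurjective (f := QuotientGroup.mk' (pPrimeCore 2 G))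
      (QuotientGroup.mk'_surjective _)) ?_ hcore
    have hdis : Disjoint (S : Subgroup G) (pPrimeCore 2 G) := by
      obtain ⟨j, hj⟩ := IsPGroup.iff_card.1 S.2
      exact Subgroup.disjoint_of_coprime_natCard (by
        rw [hj]; exact (Nat.prime_two.coprime_iff_not_dvd.2 hpN).pow_left j)
    refine isQuasiDihedral_congr (MulEquiv.ofBijective
      ((QuotientGroup.mk' (pPrimeCore 2 G)).subgroupMap (S : Subgroup G)) ⟨?_, ?_⟩) hqd
    · intro v w hvw
      have h1 : (v : G)⁻¹ * w ∈ pPrimeCore 2 G := QuotientGroup.eq.1 (congrArg Subtype.val hvw)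
      exact Subtype.ext (inv_mul_eq_one.1
        (Subgroup.disjoint_def.1 hdis (mul_mem (inv_mem v.2) w.2) h1))
    · exact MonoidHom.subgroupMap_surjective _ _
  · -- reduction to the stabiliser
    have := Fintype.ofFinite T
    have hb := Fong.isPBlock_singleton hM hpN θ
    have hNT : pPrimeCore 2 G ≤ T := fun x hx => (CharApp.mem_inertia_iff _).2 fun m =>
      Char.IsIrrCharacter.isClassFunction θ.2 m ⟨x, hx⟩
    have hT : FongReynolds.IsBlockStab (pPrimeCore 2 G) T {θ} := by
      intro g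
      rw [CharApp.mem_inertia_iff]
      simp only [Set.mem_singleton_iff, forall_eq]
      constructor
      · intro h θ' hθ'
        exact Subtype.ext (funext fun m => (hθ' m).trans (h m))
      · intro h m
        have e := h (BlocksNormal.conjIrr (pPrimeCore 2 G) g⁻¹ θ) fun m' =>
          congrArg (θ : pPrimeCore 2 G → ℂ) (Subtype.ext (by simp [mul_assoc]))
        have e' := congrFun (congrArg Subtype.val e) m
        refine Eq.trans ?_ e'
        exact congrArg _ (Subtype.ext (by simp [mul_assoc]))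
    obtain ⟨B', hB', hcov, hind⟩ := (FongReynolds.fong_reynolds hNT hM hb hT).2.2 B hB
      ⟨χ, hχ, θ, rfl, hθ⟩
    obtain ⟨D', hD'⟩ := Blocks.exists_isDefectGroup hM hB'
    obtain ⟨B₀, hB₀, -, hirr, hmem⟩ := (FongReynolds.fong_reynolds hNT hM hb hT).1 B' hB' hcov
    obtain rfl := SecondMain.induced_unique hM hind hB₀
    have hrank : blockRank 2 B ≤ blockRank 2 B' := by
      let Φ : (T → ℂ) →ₗ[ℂ] (G → ℂ) :=
        { toFun := indFun T
          map_add' := Char.indFun_add T
          map_smul' := Char.indFun_smul T }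
      have hpR : ∀ f : T → ℂ, Φ (pRegularPart 2 f) = pRegularPart 2 (indFun T f) := by
        intro f
        funext g
        show indFun T _ g = _
        have hext : ∀ x : G, extendByZero T (pRegularPart 2 f) (x⁻¹ * g * x) =
            if ¬ 2 ∣ orderOf g then extendByZero T f (x⁻¹ * g * x) else 0 := by
          intro x
          by_cases hx : x⁻¹ * g * x ∈ T
          · have ho : orderOf (⟨_, hx⟩ : T) = orderOf g := by
              rw [← Subgroup.orderOf_coe]
              show orderOf (x⁻¹ * g * x) = _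
              rw [show x⁻¹ * g * x = x⁻¹ * g * x⁻¹⁻¹ by rw [inv_inv], SecondMain.orderOf_conj]
            rw [Char.extendByZero_mem _ _ hx, Char.extendByZero_mem _ _ hx]
            simp only [pRegularPart, IsPRegular, ho]
          · rw [Char.extendByZero_not_mem _ _ hx, Char.extendByZero_not_mem _ _ hx, ite_self]
        simp only [indFun, hext, pRegularPart, IsPRegular]
        by_cases hg : 2 ∣ orderOf g <;> simp [hg]
      refine le_trans (Submodule.finrank_mono ?_) (Submodule.finrank_map_le Φ _)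
      rw [Submodule.span_le]
      rintro _ ⟨η, hη, rfl⟩
      obtain ⟨ψ, hψ, he⟩ := (hmem η).1 hη
      exact ⟨_, Submodule.subset_span ⟨ψ, hψ, rfl⟩, by rw [hpR, ← he]⟩
    have hlt : Nat.card T < n := by
      rw [← hn]
      exact lt_of_le_of_ne (Subgroup.card_le_card_group _)
        fun h => hTtop (Subgroup.eq_top_of_card_eq _ h)
    obtain ⟨x, hx⟩ := isDefectGroup_conj_eq hM hB
      (CoverDefect.fong_reynolds_defect hM hb hT hNT hB' hcov hind hD') hD
    have e : D' ≃* D := ((Subgroup.equivMapOfInjective D' T.subtype T.subtype_injective).trans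
      ((MulAut.conj x).subgroupMap _)).trans (MulEquiv.subgroupCongr hx)
    have hsT : Group.IsSolvable T := inferInstance
    exact hrank.trans (ih _ hlt rfl hsT hB' hD' (isQuasiDihedral_congr e.symm hqd))

end Cfsg.Agent.SemiSolvable
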